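import Cfsg.Agent.H752.Ext
import Cfsg.Agent.H755.CommA
import Cfsg.Agent.H802.FusNormalSub
set_option linter.all false

/-!
# `T`-centric subgroups and automorphisms of `N_T(P)` trivial on `P` (helper756)
-/

set_option autoImplicit false

namespace Cfsg.Agent.H756

open Cfsg Cfsg.FusionSystem Cfsg.Agent.H752

variable {Ω : Type*} [Group Ω] {S T : Subgroup Ω} {F : FusionSystem S} {p : ℕ}

/-- `P ≤ T` and `C_T(P') ≤ P'` for every `F`-conjugate `P'` of `P`. -/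
def TC (F : FusionSystem S) (T P : Subgroup Ω) : Prop :=
  P ≤ T ∧ ∀ f : Ω → Ω, Mp F P f → ∀ z ∈ T, (∀ x ∈ P, f x * z = z * f x) → ∃ x ∈ P, f x = z

theorem TC.le {P : Subgroup Ω} (h : TC F T P) : P ≤ T := h.1

theorem TC.mono {P Q : Subgroup Ω} (h : TC F T P) (hPQ : P ≤ Q) (hQT : Q ≤ T) : TC F T Q := by
  refine ⟨hQT, fun f hf z hz hc => ?_⟩
  obtain ⟨x, hx, h1⟩ := h.2 f (hf.res hPQ) z hz fun x hx => hc x (hPQ hx)
  exact ⟨x, hPQ hx, h1⟩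

theorem TC.image (hT : F.StronglyClosed T) {P R : Subgroup Ω} (h : TC F T P) {f : Ω → Ω}
    (hf : Mp F P f) (hR : ∀ y, y ∈ R ↔ ∃ x ∈ P, f x = y) : TC F T R := by
  refine ⟨fun y hy => ?_, fun g hg z hz hc => ?_⟩
  · obtain ⟨x, hx, rfl⟩ := (hR y).1 hy
    exact mp_mem_of_stronglyClosed hT hf hx (h.1 hx)
  · obtain ⟨x, hx, h1⟩ := h.2 _ (hf.comp hg fun x hx => (hR _).2 ⟨x, hx, rfl⟩) z hz
      fun x hx => hc _ ((hR _).2 ⟨x, hx, rfl⟩)
    exact ⟨f x, (hR _).2 ⟨x, hx, rfl⟩, h1⟩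

theorem TC.self (hS : T ≤ S) {P : Subgroup Ω} (h : TC F T P) {z : Ω} (hz : z ∈ T)
    (hc : ∀ x ∈ P, x * z = z * x) : z ∈ P := by
  obtain ⟨x, hx, rfl⟩ := h.2 _ (mp_id F (h.1.trans hS)) z hz hc
  exact hx

/-- Centric subgroups of an invariant subsystem. -/
theorem isCentric_iff_tc [Finite T] {E : FusionSystem T} (hE : E.IsInvariantIn F)
    {P : Subgroup Ω} : E.IsCentric P ↔ TC F T P := by
  obtain ⟨hEF, hT, hI, hFr⟩ := isInvariantIn_iff.1 hE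
  constructor
  · intro h
    refine ⟨h.1, fun f hf z hz hc => ?_⟩
    obtain ⟨a, ha, f₀, hf₀, h1⟩ := hFr P f h.1 hf
    obtain ⟨b, hb, hba, hab⟩ := exists_aut_inv hT ha
    obtain ⟨φ, hφ, h2⟩ := hf₀
    have hφT : ∀ x : P, φ x ∈ T := (E.le_of_mem hφ).2
    have h3 := h.2 φ.range ⟨φ, hφ, rfl⟩
    have h4 : b z ∈ centralizerIn T φ.range := by
      refine ⟨(hab z hz).1, Subgroup.mem_centralizer_iff.2 ?_⟩
      rintro _ ⟨x, rfl⟩
      have h5 := congrArg b (hc x x.2)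
      rw [h1 x x.2, ← h2 x x.2] at h5
      have h6 : a (φ x) ∈ T := mp_mem_of_stronglyClosed hT ha (hφT x) (hφT x)
      have h7 : (⟨(x : Ω), x.2⟩ : P) = x := rfl
      rw [h7, hb.mul h6 hz, hb.mul hz h6, hba _ (hφT x)] at h5
      exact h5
    obtain ⟨x, hx⟩ := h3 h4
    refine ⟨x, x.2, ?_⟩
    rw [h1 x x.2, ← h2 x x.2]
    have h7 : (⟨(x : Ω), x.2⟩ : P) = x := rfl
    rw [h7, hx, (hab z hz).2]
  · intro h
    refine ⟨h.1, ?_⟩
    rintro Q ⟨φ, hφ, rfl⟩ z ⟨hz, hc⟩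
    obtain ⟨x, hx, h1⟩ := h.2 (ex φ) (mp_ex (hEF P hφ)) z hz fun x hx => by
      rw [ex_apply _ hx]
      exact Subgroup.mem_centralizer_iff.1 hc _ ⟨⟨x, hx⟩, rfl⟩
    rw [ex_apply _ hx] at h1
    exact ⟨_, h1⟩

/-- `x⁻¹ γ(x)` centralizes `P` when `γ` fixes `P` elementwise and `x` normalizes `P`. -/
theorem comm_of_fix {N P : Subgroup Ω} {γ : Ω → Ω} (hγ : Mp F N γ) (hPN : P ≤ N)
    (hN : N ≤ Subgroup.normalizer (P : Set Ω)) (hfix : ∀ x ∈ P, γ x = x) {x : Ω} (hx : x ∈ N) :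
    ∀ y ∈ P, y * (x⁻¹ * γ x) = (x⁻¹ * γ x) * y := by
  intro y hy
  have h1 : x * y * x⁻¹ ∈ P := (Subgroup.mem_normalizer_iff.1 (hN hx) y).1 hy
  have h2 := hfix _ h1
  rw [hγ.mul (mul_mem hx (hPN hy)) (inv_mem hx), hγ.mul hx (hPN hy), hγ.inv hx, hfix y hy] at h2
  have h3 : γ x * y = x * y * x⁻¹ * γ x := by rw [← h2]; group
  have h4 : x⁻¹ * γ x * y = x⁻¹ * (γ x * y) := by group
  rw [h4, h3]
  group

theorem maps_of_fix [Finite S] (hT : F.StronglyClosed T) {P : Subgroup Ω} (hPT : P ≤ T)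
    {γ : Ω → Ω} (hγ : Mp F (normalizerIn T P) γ) (hfix : ∀ x ∈ P, γ x = x) :
    ∀ x ∈ normalizerIn T P, γ x ∈ normalizerIn T P := by
  have hPN : P ≤ normalizerIn T P := H802.le_normalizerIn hPT
  intro x hx
  refine ⟨mp_mem_of_stronglyClosed hT hγ hx hx.1, ?_⟩
  refine H802.mem_normalizer_of_conj_mem (hPT.trans hT.1) fun y hy => ?_
  have h1 : x * y * x⁻¹ ∈ P := (Subgroup.mem_normalizer_iff.1 hx.2 y).1 hy
  have h2 := hfix _ h1
  rw [hγ.mul (mul_mem hx (hPN hy)) (inv_mem hx), hγ.mul hx (hPN hy), hγ.inv hx, hfix y hy] at h2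
  rw [h2]
  exact h1

/-- An automorphism in the system of `N_T(P)` fixing a `T`-centric subgroup `P` has `p`-power order. -/
theorem pow_eq_one_of_fix [Finite S] [Fact p.Prime] (hS : IsPGroup p S) (hT : F.StronglyClosed T)
    {P N : Subgroup Ω} (hP : TC F T P) (hPN : P ≤ N) (hNT : N ≤ T)
    (hN : N ≤ Subgroup.normalizer (P : Set Ω))
    {β : MulAut N} (hβ : β ∈ F.autGroup N) (hfix : ∀ (x : Ω) (hx : x ∈ P), (β ⟨x, hPN hx⟩ : Ω) = x) :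
    ∃ k : ℕ, β ^ p ^ k = 1 := by
  have hNS : N ≤ S := hNT.trans hT.1
  have hfN : Finite N := H802.finite_of_le hNS
  have hm := (mp_iff_autGroup hNS β).1 hβ
  refine H759.exists_pow_eq_one_of_chain (hS.to_le hNS) β 2
    (fun i => if i = 0 then ⊤ else if i = 1 then P.subgroupOf N else ⊥) (by simp) (by simp) ?_ ?_
  · intro i hi x hx
    rcases i with _ | _ | _ | i
    · simp
    · have hx' : (x : Ω) ∈ P := by simpa [Subgroup.mem_subgroupOf] using hx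
      have h1 : ((β x : N) : Ω) = x := hfix x hx'
      have h2 : β x = x := Subtype.ext h1
      simpa [Subgroup.mem_subgroupOf, h2] using hx'
    · have hx' : x = 1 := by simpa using hx
      simp [hx']
    · omega
  · intro i hi x hx
    rcases i with _ | _ | i
    · have h1 : (x : Ω)⁻¹ * ((β x : N) : Ω) ∈ P := by
        have hxN := x.2
        have h2 := comm_of_fix hm hPN hN (fun y hy => by rw [ex_apply _ (hPN hy)]; exact hfix y hy)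
          hxN
        rw [ex_coe] at h2
        exact hP.self hT.1 (mul_mem (inv_mem (hNT hxN)) (hNT (β x).2)) h2
      simpa [Subgroup.mem_subgroupOf] using h1
    · have hx' : (x : Ω) ∈ P := by simpa [Subgroup.mem_subgroupOf] using hx
      have h1 : ((β x : N) : Ω) = x := hfix x hx'
      have h2 : β x = x := Subtype.ext h1
      simp [h2]
    · omega

/-- **Automorphisms of `N_T(P)` trivial on `P`** are induced by elements of `S`, for `P` `T`-centric and fully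
normalized. -/
theorem exists_conj_of_fix [Finite S] [Fact p.Prime] (hS : IsPGroup p S) (hF : F.IsSaturated p)
    (hT : F.StronglyClosed T) {P : Subgroup Ω} (hP : TC F T P) (hPn : F.IsFullyNormalized P)
    {γ : Ω → Ω} (hγ : Mp F (normalizerIn T P) γ) (hfix : ∀ x ∈ P, γ x = x) :
    ∃ s ∈ S, ∀ x ∈ normalizerIn T P, γ x = s * x * s⁻¹ := by
  set N := normalizerIn T P with hNdef
  have hPN : P ≤ N := H802.le_normalizerIn hP.le
  have hNT : N ≤ T := inf_le_left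
  have hNn : N ≤ Subgroup.normalizer (P : Set Ω) := inf_le_right
  have hNS : N ≤ S := hNT.trans hT.1
  have hfN : Finite N := H802.finite_of_le hNS
  let X : Subgroup (MulAut N) :=
    { carrier := {β | β ∈ F.autGroup N ∧ ∀ (x : Ω) (hx : x ∈ P), (β ⟨x, hPN hx⟩ : Ω) = x}
      one_mem' := ⟨one_mem _, fun x hx => rfl⟩
      mul_mem' := by
        rintro a b ⟨ha, ha'⟩ ⟨hb, hb'⟩
        refine ⟨mul_mem ha hb, fun x hx => ?_⟩
        have h1 : b ⟨x, hPN hx⟩ = ⟨x, hPN hx⟩ := Subtype.ext (hb' x hx)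
        rw [MulAut.mul_apply, h1, ha' x hx]
      inv_mem' := by
        rintro a ⟨ha, ha'⟩
        refine ⟨inv_mem ha, fun x hx => ?_⟩
        have h1 : a ⟨x, hPN hx⟩ = ⟨x, hPN hx⟩ := Subtype.ext (ha' x hx)
        have h2 : a⁻¹ ⟨x, hPN hx⟩ = ⟨x, hPN hx⟩ := by
          conv_lhs => rw [← h1]
          rw [MulAut.inv_apply_self]
        rw [h2] }
  have hXF : X ≤ F.autGroup N := fun β hβ => hβ.1
  have hXp : IsPGroup p X := by
    rintro ⟨β, hβ⟩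
    obtain ⟨k, hk⟩ := pow_eq_one_of_fix hS hT hP hPN hNT hNn hβ.1 hβ.2
    exact ⟨k, Subtype.ext hk⟩
  obtain ⟨N', ⟨φ, hφ, hφN'⟩, hN'⟩ := H802.exists_isFullyNormalized hS hF hNS
  obtain ⟨β, hβ, hconj⟩ := H802.exists_aut_conj_le_of_isPGroup hφ hφN'
    (H802.isFullyAutomized_of_isFullyNormalized hS hF hN') X hXF hXp
  have hN'S : N' ≤ S := hN'.1
  set e := H802.isoOf φ (F.injective_of_mem hφ) hφN' with hedef
  let χ : Ω → Ω := ex fun x : N => ((β (e x) : N') : Ω)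
  have hχv : ∀ (x : Ω) (hx : x ∈ N), χ x = ((β (e ⟨x, hx⟩) : N') : Ω) := fun x hx => ex_apply _ hx
  have hχ : Mp F N χ := by
    refine ((mp_ex hφ).comp ((mp_iff_autGroup hN'S β).1 hβ) fun x hx => ?_).congr fun x hx => ?_
    · rw [ex_apply _ hx, ← hφN']
      exact ⟨_, rfl⟩
    · rw [hχv x hx, ex_apply (φ : N → Ω) hx, ex_apply _ (by rw [← hφN']; exact ⟨_, rfl⟩)]
      rfl
  have hχN' : ∀ x ∈ N, χ x ∈ N' := fun x hx => by rw [hχv x hx]; exact (β _).2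
  -- the elements of `X` are induced by elements of `S` on `N'`
  have hind : ∀ γ' ∈ X, ∃ s ∈ S, ∀ (x : Ω) (hx : x ∈ N), χ (γ' ⟨x, hx⟩ : N) = s * χ x * s⁻¹ := by
    intro γ' hγ'
    obtain ⟨s, hs, h1⟩ := (H802.mem_autInducedBy_iff _ _ _).1 (hconj γ' hγ')
    refine ⟨s, hs, fun x hx => ?_⟩
    have h2 := h1 (β (e ⟨x, hx⟩))
    rw [hχv _ (γ' ⟨x, hx⟩).2, hχv x hx, ← h2]
    simp [MulAut.mul_apply, MulAut.congr_apply]
  -- the inverse of `χ` on `χ(P)`, and its extension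
  obtain ⟨P₁, hP₁, hP₁S, -⟩ := hχ.exists_image hPN
  obtain ⟨κ, hκ, hκ1, hκ2⟩ := hχ.exists_symm hPN hP₁
  obtain ⟨κ', hκ', hκ'e⟩ := hκ
  have hκr : κ'.range = P := by
    ext y
    constructor
    · rintro ⟨z, rfl⟩
      rw [show κ' z = κ z from hκ'e z z.2]
      exact (hκ2 z z.2).1
    · intro hy
      refine ⟨⟨χ y, (hP₁ _).2 ⟨y, hy, rfl⟩⟩, ?_⟩
      rw [hκ'e, hκ1 y hy]
  have hrec := (H802.isReceptive_of_isFullyNormalized hS hF hPn).2 P₁ κ' hκ' hκr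
  set M := extender S P₁ κ' with hMdef
  obtain ⟨ρ', hρ', hρ'e⟩ := hrec
  have hρ : Mp F M (ex ρ') := mp_ex hρ'
  have hP₁M : P₁ ≤ M := H802.le_extender hP₁S (H802.hom_apply_mem hκ')
  have hρκ : ∀ z ∈ P₁, ex ρ' z = κ z := fun z hz => by
    rw [ex_apply _ (hP₁M hz)]
    exact (hρ'e z hz (hP₁M hz)).trans (hκ'e z hz)
  have hCM : centralizerIn S P₁ ≤ M := H802.centralizerIn_le_extender S P₁ κ'
  have hNM : ∀ x ∈ N, χ x ∈ M := by
    intro x hx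
    have h1 : ∀ z ∈ P₁, χ x * z * (χ x)⁻¹ ∈ P₁ := by
      intro z hz
      obtain ⟨u, hu, rfl⟩ := (hP₁ z).1 hz
      refine (hP₁ _).2 ⟨x * u * x⁻¹, (Subgroup.mem_normalizer_iff.1 (hNn hx) u).1 hu, ?_⟩
      rw [hχ.mul (mul_mem hx (hPN hu)) (inv_mem hx), hχ.mul hx (hPN hu), hχ.inv hx]
    refine (H802.mem_extender_iff _ _ _ _).2 ⟨hχ.mem hx,
      H802.mem_normalizer_of_conj_mem hP₁S h1, x, hNS hx, ?_⟩
    rintro ⟨z, hz⟩ hz'
    obtain ⟨u, hu, rfl⟩ := (hP₁ z).1 hz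
    have h2 : χ x * χ u * (χ x)⁻¹ = χ (x * u * x⁻¹) := by
      rw [hχ.mul (mul_mem hx (hPN hu)) (inv_mem hx), hχ.mul hx (hPN hu), hχ.inv hx]
    have h3 : x * u * x⁻¹ ∈ P := (Subgroup.mem_normalizer_iff.1 (hNn hx) u).1 hu
    rw [hκ'e _ hz', hκ'e _ hz]
    show κ (χ x * χ u * (χ x)⁻¹) = x * κ (χ u) * x⁻¹
    rw [h2, hκ1 _ h3, hκ1 u hu]
  -- `δ = ρ χ`
  have hδ : Mp F N (fun x => ex ρ' (χ x)) := hχ.comp hρ hNM
  have hδfix : ∀ x ∈ P, ex ρ' (χ x) = x := fun x hx => by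
    rw [hρκ _ ((hP₁ _).2 ⟨x, hx, rfl⟩), hκ1 x hx]
  obtain ⟨δ, hδ1, hδ2⟩ := hδ.exists_aut (maps_of_fix hT hP.le hδ hδfix)
  have hδX : δ ∈ X := ⟨hδ1, fun x hx => by rw [← hδ2 x (hPN hx)]; exact hδfix x hx⟩
  obtain ⟨g, hg1, hg2⟩ := hγ.exists_aut (maps_of_fix hT hP.le hγ hfix)
  have hgX : g ∈ X := ⟨hg1, fun x hx => by rw [← hg2 x (hPN hx)]; exact hfix x hx⟩
  obtain ⟨s, hs, hs1⟩ := hind (δ⁻¹ * g * δ) (mul_mem (mul_mem (inv_mem hδX) hgX) hδX)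
  have hsX : (δ⁻¹ * g * δ) ∈ X := mul_mem (mul_mem (inv_mem hδX) hgX) hδX
  have hsM : s ∈ M := by
    apply hCM
    refine ⟨hs, Subgroup.mem_centralizer_iff.2 fun z hz => ?_⟩
    obtain ⟨u, hu, rfl⟩ := (hP₁ z).1 hz
    have h1 := hs1 u (hPN hu)
    have h2 : (((δ⁻¹ * g * δ) ⟨u, hPN hu⟩ : N) : Ω) = u := hsX.2 u hu
    rw [h2] at h1
    calc χ u * s = s * χ u * s⁻¹ * s := by rw [← h1]
      _ = s * χ u := by group
  refine ⟨ex ρ' s, hρ.mem hsM, fun y hy => ?_⟩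
  obtain ⟨x, hx⟩ : ∃ x : N, δ x = ⟨y, hy⟩ := ⟨δ⁻¹ ⟨y, hy⟩, MulAut.apply_inv_self N δ _⟩
  have h1 := congrArg (ex ρ') (hs1 x x.2)
  have h2 : χ x ∈ M := hNM x x.2
  rw [hρ.mul (mul_mem hsM h2) (inv_mem hsM), hρ.mul hsM h2, hρ.inv hsM] at h1
  have h3 : ex ρ' (χ ((δ⁻¹ * g * δ) x : N)) = ((δ ((δ⁻¹ * g * δ) x) : N) : Ω) :=
    hδ2 _ ((δ⁻¹ * g * δ) x).2
  have h4 : ex ρ' (χ x) = y := by
    rw [show ex ρ' (χ (x : Ω)) = ((δ ⟨x, x.2⟩ : N) : Ω) from hδ2 x x.2]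
    exact congrArg Subtype.val hx
  have h5 : δ ((δ⁻¹ * g * δ) x) = g ⟨y, hy⟩ := by
    rw [← hx]
    simp [MulAut.mul_apply]
  have h6 : (⟨(x : Ω), x.2⟩ : N) = x := rfl
  rw [h6, h3, h5, h4] at h1
  rw [hg2 y hy]
  exact h1

end Cfsg.Agent.H756
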