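import Cfsg.Agent.H752.Mp
import Cfsg.Agent.H756.TCen
import Cfsg.Agent.S5255
import Cfsg.Agent.Lib.ProductSet
import Cfsg.Agent.H755.CommB
import Cfsg.Agent.H756.PrimeIndex
import Cfsg.Agent.H759.ResInv
set_option linter.all false

-- part: H756/MkSys
section
/-!
# Fusion systems given by closed predicates on functions (helper756)
-/

set_option autoImplicit false

namespace Cfsg.Agent.H756

open Cfsg Cfsg.FusionSystem Cfsg.Agent.H752

variable {Ω : Type*} [Group Ω] {T : Subgroup Ω}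

/-- The subsystem of `E` given by a closed predicate. -/
def mkSys (E : FusionSystem T) (M : Subgroup Ω → (Ω → Ω) → Prop)
    (h_congr : ∀ (P : Subgroup Ω) (f g : Ω → Ω), M P f → (∀ x ∈ P, g x = f x) → M P g)
    (h_conj : ∀ (P : Subgroup Ω), P ≤ T → ∀ t ∈ T, M P (fun x => t * x * t⁻¹))
    (h_comp : ∀ (P Q : Subgroup Ω) (f g : Ω → Ω), Mp E P f → M P f → Mp E Q g → M Q g →
      (∀ x ∈ P, f x ∈ Q) → M P (fun x => g (f x)))
    (h_inv : ∀ (P R : Subgroup Ω) (f g : Ω → Ω), Mp E P f → M P f → Mp E R g →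
      (∀ y, y ∈ R ↔ ∃ x ∈ P, f x = y) → (∀ x ∈ P, g (f x) = x) → M R g) : FusionSystem T where
  Hom P := {φ | φ ∈ E.Hom P ∧ M P (ex φ)}
  le_of_mem := fun h => E.le_of_mem h.1
  injective_of_mem := fun h => E.injective_of_mem h.1
  conj_mem := by
    intro P g hP hg
    exact ⟨E.conj_mem hP hg, h_congr P _ _ (h_conj P hP g hg) fun x hx => by
      rw [ex_apply _ hx]; rfl⟩
  comp_mem := by
    rintro P Q φ ψ ⟨hφ, hφ'⟩ ⟨hψ, hψ'⟩ h
    refine ⟨E.comp_mem hφ hψ h, ?_⟩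
    have hPQ : ∀ x ∈ P, ex φ x ∈ Q := fun x hx => by rw [ex_apply _ hx]; exact h _
    refine h_congr P _ _ (h_comp P Q _ _ (mp_ex hφ) hφ' (mp_ex hψ) hψ' hPQ) fun x hx => ?_
    rw [ex_apply _ hx, ex_apply (φ : P → Ω) hx, ex_apply _ (h _)]
    rfl
  inv_mem := by
    rintro P φ ⟨hφ, hφ'⟩
    obtain ⟨ψ, hψ, he⟩ := E.inv_mem hφ
    refine ⟨ψ, ⟨hψ, ?_⟩, he⟩
    refine h_inv P φ.range (ex φ) (ex ψ) (mp_ex hφ) hφ' (mp_ex hψ) (fun y => ?_) fun x hx => ?_
    · constructor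
      · rintro ⟨x, rfl⟩
        exact ⟨x, x.2, ex_coe _ x⟩
      · rintro ⟨x, hx, rfl⟩
        exact ⟨⟨x, hx⟩, (ex_apply (φ : P → Ω) hx).symm⟩
    · have h1 : ex φ x ∈ φ.range := ⟨⟨x, hx⟩, (ex_apply (φ : P → Ω) hx).symm⟩
      rw [ex_apply (ψ : φ.range → Ω) h1]
      have h2 := he ⟨x, hx⟩
      have h3 : (⟨ex φ x, h1⟩ : φ.range) = ⟨φ ⟨x, hx⟩, ⟨⟨x, hx⟩, rfl⟩⟩ :=
        Subtype.ext (ex_apply (φ : P → Ω) hx)
      rw [h3, h2]

section

variable {E : FusionSystem T} {M : Subgroup Ω → (Ω → Ω) → Prop}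
    {h_congr : ∀ (P : Subgroup Ω) (f g : Ω → Ω), M P f → (∀ x ∈ P, g x = f x) → M P g}
    {h_conj : ∀ (P : Subgroup Ω), P ≤ T → ∀ t ∈ T, M P (fun x => t * x * t⁻¹)}
    {h_comp : ∀ (P Q : Subgroup Ω) (f g : Ω → Ω), Mp E P f → M P f → Mp E Q g → M Q g →
      (∀ x ∈ P, f x ∈ Q) → M P (fun x => g (f x))}
    {h_inv : ∀ (P R : Subgroup Ω) (f g : Ω → Ω), Mp E P f → M P f → Mp E R g →
      (∀ y, y ∈ R ↔ ∃ x ∈ P, f x = y) → (∀ x ∈ P, g (f x) = x) → M R g}

theorem mkSys_le : mkSys E M h_congr h_conj h_comp h_inv ≤ E := fun _ _ h => h.1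

theorem mp_mkSys_iff {P : Subgroup Ω} {f : Ω → Ω} :
    Mp (mkSys E M h_congr h_conj h_comp h_inv) P f ↔ Mp E P f ∧ M P f := by
  constructor
  · rintro ⟨φ, ⟨hφ, hφ'⟩, he⟩
    exact ⟨⟨φ, hφ, he⟩, h_congr P _ _ hφ' fun x hx => by rw [ex_apply _ hx, he x hx]⟩
  · rintro ⟨⟨φ, hφ, he⟩, hf⟩
    exact ⟨φ, ⟨hφ, h_congr P _ _ hf fun x hx => by rw [ex_apply _ hx, he x hx]⟩, he⟩

end

end Cfsg.Agent.H756
end

-- part: H756/Flat
section
/-!
# Maps trivial modulo `T` on `C_S(T)` (helper756)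

Let `T` be strongly closed in the saturated system `F` over `S`, and `C = C_S(T)`.
`exists_lift_coprime` (Lemma L): `Q ≤ T` `T`-centric, `ψ ∈ Aut_F(Q C)` of order prime to `p` trivial on `Q`. Then some
`h ∈ Aut_F(T C)` is trivial on `T` and agrees with `ψ` modulo `T` on `Q C`.
-/

set_option autoImplicit false

namespace Cfsg.Agent.H756

open Cfsg Cfsg.FusionSystem Cfsg.Agent.H752

variable {Ω : Type*} [Group Ω] {S T : Subgroup Ω} {F : FusionSystem S} {p : ℕ}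

/-! ### Automorphisms as functions -/

/-- The function on `Ω` given by an automorphism of `P`. -/
noncomputable def af {P : Subgroup Ω} (α : MulAut P) : Ω → Ω := ex fun x : P => ((α x : P) : Ω)

theorem af_apply {P : Subgroup Ω} (α : MulAut P) {x : Ω} (hx : x ∈ P) :
    af α x = ((α ⟨x, hx⟩ : P) : Ω) := ex_apply _ hx

theorem af_mem {P : Subgroup Ω} (α : MulAut P) {x : Ω} (hx : x ∈ P) : af α x ∈ P := by
  rw [af_apply α hx]; exact (α _).2

theorem mp_af {P : Subgroup Ω} (hP : P ≤ S) {α : MulAut P} (hα : α ∈ F.autGroup P) :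
    Mp F P (af α) := (mp_iff_autGroup hP α).1 hα

theorem mem_aut_of_mp {P : Subgroup Ω} (hP : P ≤ S) {α : MulAut P} (h : Mp F P (af α)) :
    α ∈ F.autGroup P := (mp_iff_autGroup hP α).2 h

theorem af_mul {P : Subgroup Ω} (α β : MulAut P) {x : Ω} (hx : x ∈ P) :
    af (α * β) x = af α (af β x) := by
  rw [af_apply _ hx, af_apply β hx, af_apply α (β _).2]; rfl

theorem af_one {P : Subgroup Ω} {x : Ω} (hx : x ∈ P) : af (1 : MulAut P) x = x := by
  rw [af_apply _ hx]; rfl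

theorem af_inv_af {P : Subgroup Ω} (α : MulAut P) {x : Ω} (hx : x ∈ P) : af α⁻¹ (af α x) = x := by
  rw [← af_mul _ _ hx, inv_mul_cancel, af_one hx]

theorem af_af_inv {P : Subgroup Ω} (α : MulAut P) {x : Ω} (hx : x ∈ P) : af α (af α⁻¹ x) = x := by
  rw [← af_mul _ _ hx, mul_inv_cancel, af_one hx]

theorem af_ext {P : Subgroup Ω} {α β : MulAut P} (h : ∀ x ∈ P, af α x = af β x) : α = β := by
  ext x
  have := h x x.2
  rw [af_apply _ x.2, af_apply _ x.2] at this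
  exact this

/-! ### Congruence modulo `T` -/

/-- `x ≡ y` modulo `T`. -/
def Cg (T : Subgroup Ω) (x y : Ω) : Prop := x⁻¹ * y ∈ T

theorem Cg.refl (T : Subgroup Ω) (x : Ω) : Cg T x x := by
  show x⁻¹ * x ∈ T
  rw [inv_mul_cancel]; exact one_mem T

theorem Cg.symm {x y : Ω} (h : Cg T x y) : Cg T y x := by
  have h1 := T.inv_mem h
  rwa [mul_inv_rev, inv_inv] at h1

theorem Cg.trans {x y z : Ω} (h : Cg T x y) (h' : Cg T y z) : Cg T x z := by
  have h1 := T.mul_mem h h'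
  have h2 : x⁻¹ * y * (y⁻¹ * z) = x⁻¹ * z := by group
  rwa [h2] at h1

theorem Cg.of_eq {x y : Ω} (h : x = y) : Cg T x y := h ▸ Cg.refl T x

theorem Cg.map (hT : F.StronglyClosed T) {P : Subgroup Ω} {f : Ω → Ω} (hf : Mp F P f) {x y : Ω}
    (hx : x ∈ P) (hy : y ∈ P) (h : Cg T x y) : Cg T (f x) (f y) := by
  have h1 := mp_mem_of_stronglyClosed hT hf (mul_mem (inv_mem hx) hy) h
  rwa [hf.mul (inv_mem hx) hy, hf.inv hx] at h1

theorem conj_mem_of_sc (hT : F.StronglyClosed T) {s t : Ω} (hs : s ∈ S) (ht : t ∈ T) :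
    s * t * s⁻¹ ∈ T :=
  (Subgroup.mem_normalizer_iff.1 (H759.StronglyClosed.le_normalizer hT hs) t).1 ht

theorem Cg.mul (hT : F.StronglyClosed T) {x y x' y' : Ω} (hx' : x' ∈ S) (h : Cg T x y)
    (h' : Cg T x' y') : Cg T (x * x') (y * y') := by
  have h1 := conj_mem_of_sc hT (inv_mem hx') h
  rw [inv_inv] at h1
  have h2 := T.mul_mem h1 h'
  have h3 : x'⁻¹ * (x⁻¹ * y) * x' * (x'⁻¹ * y') = (x * x')⁻¹ * (y * y') := by group
  rwa [h3] at h2

theorem Cg.inv (hT : F.StronglyClosed T) {x y : Ω} (hx : x ∈ S) (h : Cg T x y) :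
    Cg T x⁻¹ y⁻¹ := by
  have h1 := conj_mem_of_sc hT hx (T.inv_mem h)
  have h2 : x * (x⁻¹ * y)⁻¹ * x⁻¹ = x⁻¹⁻¹ * y⁻¹ := by group
  rwa [h2] at h1

/-- Two maps of the system on `A ⊔ B` congruent modulo `T` on `A` and on `B` are congruent on `A ⊔ B`. -/
theorem cg_sup (hT : F.StronglyClosed T) {A B : Subgroup Ω} {f g : Ω → Ω} (hf : Mp F (A ⊔ B) f)
    (hg : Mp F (A ⊔ B) g) (hA : ∀ x ∈ A, Cg T (f x) (g x)) (hB : ∀ x ∈ B, Cg T (f x) (g x)) :
    ∀ x ∈ A ⊔ B, Cg T (f x) (g x) := by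
  let K : Subgroup Ω :=
    { carrier := {x | x ∈ A ⊔ B ∧ Cg T (f x) (g x)}
      one_mem' := ⟨one_mem _, by rw [hf.one, hg.one]; exact Cg.refl T 1⟩
      mul_mem' := by
        rintro a b ⟨ha, ha'⟩ ⟨hb, hb'⟩
        refine ⟨mul_mem ha hb, ?_⟩
        rw [hf.mul ha hb, hg.mul ha hb]
        exact Cg.mul hT (hf.mem hb) ha' hb'
      inv_mem' := by
        rintro a ⟨ha, ha'⟩
        refine ⟨inv_mem ha, ?_⟩
        rw [hf.inv ha, hg.inv ha]
        exact Cg.inv hT (hf.mem ha) ha' }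
  have hle : A ⊔ B ≤ K := sup_le (fun x hx => ⟨(le_sup_left : A ≤ A ⊔ B) hx, hA x hx⟩)
    (fun x hx => ⟨(le_sup_right : B ≤ A ⊔ B) hx, hB x hx⟩)
  exact fun x hx => (hle hx).2

/-! ### Subgroups `P C_S(T)` -/

theorem cent_comm {x c : Ω} (hx : x ∈ T) (hc : c ∈ centralizerIn S T) : x * c = c * x :=
  Subgroup.mem_centralizer_iff.1 hc.2 x hx

theorem mem_sup_cent {P : Subgroup Ω} (hPT : P ≤ T) {y : Ω} :
    y ∈ P ⊔ centralizerIn S T ↔ ∃ x ∈ P, ∃ c ∈ centralizerIn S T, x * c = y :=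
  H755.mem_sup_of_comm fun _ ht _ hu => cent_comm (hPT ht) hu

theorem sup_cent_le (hT : F.StronglyClosed T) {P : Subgroup Ω} (hPT : P ≤ T) :
    P ⊔ centralizerIn S T ≤ S := sup_le (hPT.trans hT.1) inf_le_left

/-- Elements of `T` in `P C_S(T)` lie in `P`, for `P` `T`-centric. -/
theorem TC.mem_of_mem_sup (hTS : T ≤ S) {P : Subgroup Ω} (hP : TC F T P) {y : Ω} (hy : y ∈ T)
    (h : y ∈ P ⊔ centralizerIn S T) : y ∈ P := by
  obtain ⟨x, hx, c, hc, rfl⟩ := (mem_sup_cent hP.le).1 h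
  have hcT : c ∈ T := by
    have h1 : c = x⁻¹ * (x * c) := by group
    rw [h1]; exact mul_mem (inv_mem (hP.le hx)) hy
  exact mul_mem hx (hP.self hTS hcT fun z hz => cent_comm (hP.le hz) hc)

/-- The image of an element of `C_S(T)` under a map defined on `P C_S(T)`, `P` `T`-centric. -/
theorem TC.apply_cent [Finite S] [Fact p.Prime] (hS : IsPGroup p S) (hF : F.IsSaturated p)
    (hT : F.StronglyClosed T) {P : Subgroup Ω} (hP : TC F T P) {σ : Ω → Ω}
    (hσ : Mp F (P ⊔ centralizerIn S T) σ) {c : Ω} (hc : c ∈ centralizerIn S T) :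
    ∃ y ∈ P, ∃ c' ∈ centralizerIn S T, σ c = σ y * c' := by
  have hcm : c ∈ P ⊔ centralizerIn S T := (le_sup_right : centralizerIn S T ≤ _) hc
  have h1 : σ c ∈ T ⊔ centralizerIn S T :=
    mp_mem_of_stronglyClosed (Cfsg.Agent.S5255.result p hS F hF T hT) hσ hcm
      ((le_sup_right : centralizerIn S T ≤ T ⊔ centralizerIn S T) hc)
  obtain ⟨t, ht, c', hc', h2⟩ := (mem_sup_cent le_rfl).1 h1
  have hPm : P ≤ P ⊔ centralizerIn S T := le_sup_left
  obtain ⟨y, hy, h3⟩ := hP.2 σ (hσ.res hPm) t ht (fun x hx => by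
    have h4 : σ x * σ c = σ c * σ x := by
      rw [← hσ.mul (hPm hx) hcm, ← hσ.mul hcm (hPm hx), cent_comm (hP.le hx) hc]
    have h5 : σ x ∈ T := mp_mem_of_stronglyClosed hT hσ (hPm hx) (hP.le hx)
    rw [← h2] at h4
    have h6 := cent_comm h5 hc'
    have h7 : σ x * t * c' = t * σ x * c' := by
      rw [mul_assoc, h4, mul_assoc, mul_assoc, ← h6]
    exact mul_right_cancel h7)
  exact ⟨y, hy, c', hc', by rw [h3, h2]⟩

/-- The image of `P C_S(T)` is `P' C_S(T)`, `P'` the image of `P`, for `P` `T`-centric. -/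
theorem TC.image_sup [Finite S] [Fact p.Prime] (hS : IsPGroup p S) (hF : F.IsSaturated p)
    (hT : F.StronglyClosed T) {P P' : Subgroup Ω} (hP : TC F T P) {σ : Ω → Ω}
    (hσ : Mp F (P ⊔ centralizerIn S T) σ) (hP' : ∀ y, y ∈ P' ↔ ∃ x ∈ P, σ x = y) (y : Ω) :
    y ∈ P' ⊔ centralizerIn S T ↔ ∃ x ∈ P ⊔ centralizerIn S T, σ x = y := by
  have hPm : P ≤ P ⊔ centralizerIn S T := le_sup_left
  have hCm : centralizerIn S T ≤ P ⊔ centralizerIn S T := le_sup_right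
  have hP'c : TC F T P' := hP.image hT (hσ.res hPm) hP'
  obtain ⟨Y, hY, hYS, hYc⟩ := hσ.exists_image le_rfl
  have hfS : Finite (P' ⊔ centralizerIn S T : Subgroup Ω) :=
    H802.finite_of_le (sup_cent_le hT hP'c.le)
  have hle : Y ≤ P' ⊔ centralizerIn S T := by
    intro z hz
    obtain ⟨x, hx, rfl⟩ := (hY z).1 hz
    obtain ⟨u, hu, c, hc, rfl⟩ := (mem_sup_cent hP.le).1 hx
    obtain ⟨v, hv, c', hc', h1⟩ := hP.apply_cent hS hF hT hσ hc
    rw [hσ.mul (hPm hu) (hCm hc), h1]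
    exact mul_mem ((le_sup_left : P' ≤ _) ((hP' _).2 ⟨u, hu, rfl⟩))
      (mul_mem ((le_sup_left : P' ≤ _) ((hP' _).2 ⟨v, hv, rfl⟩))
        ((le_sup_right : centralizerIn S T ≤ _) hc'))
  have hinf : ∀ Q : Subgroup Ω, TC F T Q → Q ⊓ centralizerIn S T = T ⊓ centralizerIn S T := by
    intro Q hQ
    apply le_antisymm
    · exact inf_le_inf_right _ hQ.le
    · rintro z ⟨hz, hzc⟩
      exact ⟨hQ.self hT.1 hz fun x hx => cent_comm (hQ.le hx) hzc, hzc⟩
  have hcard : ∀ Q : Subgroup Ω, TC F T Q →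
      Nat.card (Q ⊔ centralizerIn S T : Subgroup Ω) * Nat.card (T ⊓ centralizerIn S T : Subgroup Ω) =
        Nat.card Q * Nat.card (centralizerIn S T) := by
    intro Q hQ
    have hn : Q ≤ Subgroup.normalizer ((centralizerIn S T : Subgroup Ω) : Set Ω) := by
      rw [Subgroup.le_normalizer_iff]
      intro a ha b hb
      rw [cent_comm (hQ.le ha) hb]
      simpa using hb
    rw [← hinf Q hQ, ← Cfsg.Agent.Lib.ProductSet.card_mul_card_inf Q (centralizerIn S T)]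
    congr 1
    have := Subgroup.coe_mul_of_left_le_normalizer_right Q (centralizerIn S T) hn
    exact Nat.card_congr (Equiv.setCongr this)
  have hPP' : Nat.card P' = Nat.card P := by
    obtain ⟨P'', h1, -, h2⟩ := (hσ.res hPm).exists_image le_rfl
    have : P' = P'' := by
      ext z; rw [hP' z, h1 z]
    rw [this, h2]
  have hfZ : Finite (T ⊓ centralizerIn S T : Subgroup Ω) :=
    H802.finite_of_le ((inf_le_left : T ⊓ centralizerIn S T ≤ T).trans hT.1)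
  have hYeq : Y = P' ⊔ centralizerIn S T := by
    apply Subgroup.eq_of_le_of_card_ge hle
    rw [hYc]
    have h1 := hcard P hP
    have h2 := hcard P' hP'c
    rw [hPP', ← h1] at h2
    exact (Nat.eq_of_mul_eq_mul_right Nat.card_pos h2).le
  rw [← hYeq]
  exact hY y

end Cfsg.Agent.H756
end

-- part: H756/LemL
section
/-!
# Lemma L (helper756)

`exists_lift_coprime`: `Q ≤ T` `T`-centric, `ψ ∈ Aut_F(Q C)` of order prime to `p` trivial on `Q` (`C = C_S(T)`): some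
`h ∈ Aut_F(T C)` is trivial on `T` and agrees with `ψ` modulo `T` on `Q C`.
-/

set_option autoImplicit false

namespace Cfsg.Agent.H756

open Cfsg Cfsg.FusionSystem Cfsg.Agent.H752

variable {Ω : Type*} [Group Ω] {S T : Subgroup Ω} {F : FusionSystem S} {p : ℕ}

/-- A fully normalized step of Lemma L: `ψ ∈ Aut_F(Q C)` of order prime to `p` and trivial on `Q` extends to
`N_T(Q) C`, trivially on `N_T(Q)`. -/
theorem exists_step' [Finite S] [Fact p.Prime] (hS : IsPGroup p S) (hF : F.IsSaturated p)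
    (hT : F.StronglyClosed T) {Q C Y N : Subgroup Ω} (hQ : TC F T Q)
    (hCdef : C = centralizerIn S T) (hYdef : Y = Q ⊔ C) (hNdef : N = normalizerIn T Q)
    (hn : F.IsFullyNormalized Y) {ψ : MulAut Y}
    (hψ : ψ ∈ F.autGroup Y) (hco : Nat.Coprime (orderOf ψ) p)
    (hfix : ∀ x ∈ Q, af ψ x = x) :
    ∃ ψ' ∈ F.autGroup (N ⊔ C), Nat.Coprime (orderOf ψ') p ∧
      (∀ x ∈ N, af ψ' x = x) ∧
      ∀ x ∈ Y, af ψ' x = af ψ x := by
  have hTS : T ≤ S := hT.1
  have hYle : Y ≤ Q ⊔ centralizerIn S T := by rw [hYdef, hCdef]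
  have hCle : C ≤ centralizerIn S T := hCdef.le
  have hNle' : N ≤ normalizerIn T Q := hNdef.le
  have hYS : Y ≤ S := hYle.trans (sup_cent_le hT hQ.le)
  have hQY : Q ≤ Y := by rw [hYdef]; exact le_sup_left
  have hCY : C ≤ Y := by rw [hYdef]; exact le_sup_right
  have hNT : N ≤ T := by rw [hNdef]; exact inf_le_left
  have hQN : Q ≤ N := by rw [hNdef]; exact H802.le_normalizerIn hQ.le
  have hfY : Finite Y := H802.finite_of_le hYS
  have hfN : Finite N := H802.finite_of_le (hNT.trans hTS)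
  have hψm := mp_af hYS hψ
  have hYa := H802.isFullyAutomized_of_isFullyNormalized hS hF hn
  have hYr := H802.isReceptive_of_isFullyNormalized hS hF hn
  -- the normal `p`-subgroup of the automorphisms trivial on `Q` and modulo `T`
  let M : Subgroup (MulAut Y) :=
    { carrier := {β | β ∈ F.autGroup Y ∧ (∀ x ∈ Q, af β x = x) ∧ ∀ y ∈ Y, Cg T y (af β y)}
      one_mem' := ⟨one_mem _, fun x hx => af_one (hQY hx), fun y hy => Cg.of_eq (af_one hy).symm⟩
      mul_mem' := by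
        rintro a b ⟨ha, ha1, ha2⟩ ⟨hb, hb1, hb2⟩
        refine ⟨mul_mem ha hb, fun x hx => ?_, fun y hy => ?_⟩
        · rw [af_mul _ _ (hQY hx), hb1 x hx, ha1 x hx]
        · rw [af_mul _ _ hy]
          exact (hb2 y hy).trans (ha2 _ (af_mem b hy))
      inv_mem' := by
        rintro a ⟨ha, ha1, ha2⟩
        refine ⟨inv_mem ha, fun x hx => ?_, fun y hy => ?_⟩
        · have := af_inv_af a (hQY hx)
          rwa [ha1 x hx] at this
        · have := ha2 _ (af_mem a⁻¹ hy)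
          rw [af_af_inv a hy] at this
          exact this.symm }
  have hMF : M ≤ F.autGroup Y := fun β hβ => hβ.1
  have hautQ : ∀ β ∈ F.autGroup Y, ∀ x ∈ Q, af β x ∈ Q := by
    intro β hβ x hx
    refine hQ.mem_of_mem_sup hTS ?_ (hYle (af_mem β (hQY hx)))
    exact mp_mem_of_stronglyClosed hT (mp_af hYS hβ) (hQY hx) (hQ.le hx)
  have hMn : ∀ a ∈ F.autGroup Y, ∀ k ∈ M, a * k * a⁻¹ ∈ M := by
    rintro a ha k ⟨hk, hk1, hk2⟩
    refine ⟨mul_mem (mul_mem ha hk) (inv_mem ha), fun x hx => ?_, fun y hy => ?_⟩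
    · rw [af_mul _ _ (hQY hx), af_mul _ _ (af_mem _ (hQY hx)), hk1 _ (hautQ _ (inv_mem ha) x hx),
        af_af_inv a (hQY hx)]
    · rw [af_mul _ _ hy, af_mul _ _ (af_mem _ hy)]
      have h1 := hk2 _ (af_mem a⁻¹ hy)
      have h2 := h1.map hT (mp_af hYS ha) (af_mem a⁻¹ hy) (af_mem k (af_mem a⁻¹ hy))
      rw [af_af_inv a hy] at h2
      exact h2
  have hMp : IsPGroup p M := by
    rintro ⟨β, hβ, hβ1, hβ2⟩
    obtain ⟨k, hk⟩ := H759.exists_pow_eq_one_of_chain (hS.to_le hYS) β 2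
      (fun i => if i = 0 then ⊤ else if i = 1 then Q.subgroupOf Y else ⊥) (by simp) (by simp)
      (by
        intro i hi x hx
        rcases i with _ | _ | _ | i
        · simp
        · have hx' : (x : Ω) ∈ Q := by simpa [Subgroup.mem_subgroupOf] using hx
          have h1 := hautQ β hβ x hx'
          rw [af_apply β x.2] at h1
          simpa [Subgroup.mem_subgroupOf] using h1
        · have hx' : x = 1 := by simpa using hx
          simp [hx']
        · omega)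
      (by
        intro i hi x hx
        rcases i with _ | _ | i
        · have h1 := hβ2 x x.2
          rw [af_apply β x.2] at h1
          have h2 : (x : Ω)⁻¹ * ((β x : Y) : Ω) ∈ Q :=
            hQ.mem_of_mem_sup hTS h1 (hYle (mul_mem (inv_mem x.2) (β x).2))
          simpa [Subgroup.mem_subgroupOf] using h2
        · have hx' : (x : Ω) ∈ Q := by simpa [Subgroup.mem_subgroupOf] using hx
          have h1 := hβ1 x hx'
          rw [af_apply β x.2] at h1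
          have h2 : β x = x := Subtype.ext h1
          simp [h2]
        · omega)
    exact ⟨k, Subtype.ext hk⟩
  have hMS := H759.le_autInducedBy_of_normal (F := F) hYa M hMF hMn hMp
  -- `N` lies in the extender of `ψ`
  have hr : (Y.subtype.comp ψ.toMonoidHom).range = Y := by
    ext y
    constructor
    · rintro ⟨x, rfl⟩; exact (ψ x).2
    · intro hy
      exact ⟨ψ⁻¹ ⟨y, hy⟩, by
        show ((ψ (ψ⁻¹ ⟨y, hy⟩) : Y) : Ω) = y
        rw [MulAut.apply_inv_self]⟩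
  have hψF := (H802.mem_autGroup_iff F hYS ψ).1 hψ
  have hNext : N ≤ extender S Y (Y.subtype.comp ψ.toMonoidHom) := by
    intro g hg
    have hgT : g ∈ T := hNT hg
    have hgS : g ∈ S := hTS hgT
    have hgC : ∀ c ∈ C, g * c * g⁻¹ = c := fun c hc => by
      rw [cent_comm hgT (hCle hc)]; group
    have hgY : g ∈ Subgroup.normalizer (Y : Set Ω) := by
      refine H802.mem_normalizer_of_conj_mem hYS fun y hy => ?_
      obtain ⟨x, hx, c, hc, rfl⟩ := (mem_sup_cent hQ.le).1 (hYle hy)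
      have hc' : c ∈ C := by rw [hCdef]; exact hc
      have h1 : g * (x * c) * g⁻¹ = (g * x * g⁻¹) * (g * c * g⁻¹) := by group
      rw [h1, hgC c hc']
      exact mul_mem (hQY ((Subgroup.mem_normalizer_iff.1 (hNle' hg).2 x).1 hx)) (hCY hc')
    obtain ⟨κ, hκ⟩ := H802.exists_conjAut hgY
    have hκf : ∀ y ∈ Y, af κ y = g * y * g⁻¹ := fun y hy => by rw [af_apply κ hy, hκ]
    have hκF : κ ∈ F.autGroup Y := by
      refine mem_aut_of_mp hYS ((mp_conj F hYS hgS).congr hκf)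
    have hκinvQ : ∀ x ∈ Q, af κ⁻¹ x ∈ Q := hautQ _ (inv_mem hκF)
    have hψinv : ∀ x ∈ Q, af ψ⁻¹ x = x := fun x hx => by
      have := af_inv_af ψ (hQY hx)
      rwa [hfix x hx] at this
    have hκC : ∀ c ∈ C, af κ⁻¹ c = c := fun c hc => by
      have h1 := af_inv_af κ (hCY hc)
      rwa [hκf c (hCY hc), hgC c hc] at h1
    have hκcg : ∀ y ∈ Y, Cg T y (af κ y) := by
      intro y hy
      rw [hκf y hy]
      show y⁻¹ * (g * y * g⁻¹) ∈ T
      have h1 := conj_mem_of_sc hT (inv_mem (hYS hy)) hgT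
      rw [inv_inv] at h1
      have h2 : y⁻¹ * (g * y * g⁻¹) = y⁻¹ * g * y * g⁻¹ := by group
      rw [h2]
      exact mul_mem h1 (inv_mem hgT)
    have hcomm : ψ * κ * ψ⁻¹ * κ⁻¹ ∈ M := by
      refine ⟨mul_mem (mul_mem (mul_mem hψ hκF) (inv_mem hψ)) (inv_mem hκF), fun x hx => ?_,
        fun y hy => ?_⟩
      · rw [af_mul _ _ (hQY hx), af_mul _ _ (hQY (hκinvQ x hx)), hψinv _ (hκinvQ x hx),
          af_mul _ _ (hQY (hκinvQ x hx)), af_af_inv κ (hQY hx), hfix x hx]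
      · have e1 : af (ψ * κ * ψ⁻¹ * κ⁻¹) y = af ψ (af κ (af ψ⁻¹ (af κ⁻¹ y))) := by
          rw [af_mul _ _ hy, af_mul _ _ (af_mem _ hy), af_mul _ _ (af_mem _ (af_mem _ hy))]
        rw [e1]
        have hz := af_mem κ⁻¹ hy
        have h1 := hκcg _ (af_mem ψ⁻¹ hz)
        have h2 := h1.map hT hψm (af_mem ψ⁻¹ hz) (af_mem κ (af_mem ψ⁻¹ hz))
        rw [af_af_inv ψ hz] at h2
        have h3 := hκcg _ hz
        rw [af_af_inv κ hy] at h3
        exact h3.symm.trans h2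
    have hψκ : ψ * κ * ψ⁻¹ ∈ autInducedBy S Y := by
      have h1 := mul_mem (hMS hcomm) ((H802.mem_autInducedBy_iff S Y κ).2 ⟨g, hgS, hκ⟩)
      have h2 : ψ * κ * ψ⁻¹ * κ⁻¹ * κ = ψ * κ * ψ⁻¹ := by group
      rwa [h2] at h1
    obtain ⟨s, hs, hs1⟩ := (H802.mem_autInducedBy_iff _ _ _).1 hψκ
    refine (H802.mem_extender_iff _ _ _ _).2 ⟨hgS, hgY, s, hs, fun x hx => ?_⟩
    have h1 := hs1 (ψ x)
    have h2 : (ψ * κ * ψ⁻¹) (ψ x) = ψ (κ x) := by simp [MulAut.mul_apply]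
    rw [h2] at h1
    have h3 : (⟨g * x * g⁻¹, hx⟩ : Y) = κ x := Subtype.ext (hκ x).symm
    rw [h3]
    exact h1
  -- the extension
  have hrec := hYr.2 Y _ hψF hr
  set E := extender S Y (Y.subtype.comp ψ.toMonoidHom) with hEdef
  obtain ⟨ρ, hρ, hρe⟩ := hrec
  have hYE : Y ≤ E := H802.le_extender hYS (H802.hom_apply_mem hψF)
  have hNC : N ⊔ C ≤ E := sup_le hNext (hCY.trans hYE)
  have hY1 : Y ≤ N ⊔ C := by rw [hYdef]; exact sup_le_sup_right hQN C
  have hY1S : N ⊔ C ≤ S := by rw [hCdef]; exact sup_cent_le hT hNT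
  have hfY1 : Finite (N ⊔ C : Subgroup Ω) := H802.finite_of_le hY1S
  have hρm : Mp F (N ⊔ C) (ex ρ) := (mp_ex hρ).res hNC
  have hρY : ∀ x ∈ Y, ex ρ x = af ψ x := fun x hx => by
    rw [ex_apply _ (hYE hx), af_apply ψ hx]
    exact hρe x hx (hYE hx)
  have hρQ : ∀ x ∈ Q, ex ρ x = x := fun x hx => by rw [hρY x (hQY hx), hfix x hx]
  have hNY1 : N ≤ N ⊔ C := le_sup_left
  subst hNdef
  have hρN := maps_of_fix hT hQ.le (hρm.res hNY1) hρQ
  have hρC : ∀ x ∈ C, ex ρ x ∈ normalizerIn T Q ⊔ C := fun x hx => by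
    rw [hρY x (hCY hx)]
    exact hY1 (af_mem ψ (hCY hx))
  obtain ⟨ψ₁, hψ₁, hψ₁e⟩ := hρm.exists_aut (hρm.mem_sup (fun x hx => hNY1 (hρN x hx)) hρC)
  have hRes : Restr hY1 ψ ψ₁ := by
    intro x hx
    rw [← hψ₁e x (hY1 hx), hρY x hx, af_apply ψ hx]
  obtain ⟨j, hj, hjc⟩ := hRes.exists_coprime hco
  set ψ₂ := ψ₁ ^ j with hψ₂def
  have hψ₂ : ψ₂ ∈ F.autGroup (normalizerIn T Q ⊔ C) := Subgroup.zpow_mem _ hψ₁ j
  have hψ₂m := mp_af hY1S hψ₂
  have hψ₂Y : ∀ x ∈ Y, af ψ₂ x = af ψ x := fun x hx => by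
    rw [af_apply ψ₂ (hY1 hx), af_apply ψ hx]; exact hj x hx
  have hψ₂Q : ∀ x ∈ Q, af ψ₂ x = x := fun x hx => by rw [hψ₂Y x (hQY hx), hfix x hx]
  have hψ₂N := maps_of_fix hT hQ.le (hψ₂m.res hNY1) hψ₂Q
  obtain ⟨ν, hν, hνe⟩ := exists_restr (F := F) hNY1 hY1S hψ₂ (fun x hx => by
    rw [← af_apply ψ₂ (hNY1 hx)]; exact hψ₂N x hx)
  obtain ⟨k, hk⟩ := pow_eq_one_of_fix hS hT hQ hQN hNT (hNle'.trans inf_le_right) hν (fun x hx => by
    rw [← hνe x (hQN hx), ← af_apply ψ₂ (hNY1 (hQN hx))]; exact hψ₂Q x hx)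
  have hν1 : ν = 1 := by
    rw [← orderOf_eq_one_iff]
    have h6 : orderOf ν ∣ p ^ k := orderOf_dvd_of_pow_eq_one hk
    have h7 : orderOf ν ∣ orderOf ψ₂ := hνe.orderOf_dvd
    exact Nat.eq_one_of_dvd_coprimes (Nat.Coprime.pow_right k hjc) h7 h6
  refine ⟨ψ₂, hψ₂, hjc, fun x hx => ?_, hψ₂Y⟩
  rw [af_apply ψ₂ (hNY1 hx), hνe x hx, hν1]
  rfl

theorem exists_step [Finite S] [Fact p.Prime] (hS : IsPGroup p S) (hF : F.IsSaturated p)
    (hT : F.StronglyClosed T) {Q : Subgroup Ω} (hQ : TC F T Q)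
    (hn : F.IsFullyNormalized (Q ⊔ centralizerIn S T)) {ψ : MulAut (Q ⊔ centralizerIn S T : Subgroup Ω)}
    (hψ : ψ ∈ F.autGroup (Q ⊔ centralizerIn S T)) (hco : Nat.Coprime (orderOf ψ) p)
    (hfix : ∀ x ∈ Q, af ψ x = x) :
    ∃ ψ' ∈ F.autGroup (normalizerIn T Q ⊔ centralizerIn S T), Nat.Coprime (orderOf ψ') p ∧
      (∀ x ∈ normalizerIn T Q, af ψ' x = x) ∧
      ∀ x ∈ Q ⊔ centralizerIn S T, af ψ' x = af ψ x :=
  exists_step' hS hF hT hQ rfl rfl rfl hn hψ hco hfix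

/-- **Lemma L.** -/
theorem exists_lift_coprime [Finite S] [Fact p.Prime] (hS : IsPGroup p S) (hF : F.IsSaturated p)
    (hT : F.StronglyClosed T) : ∀ Q : Subgroup Ω, TC F T Q →
    ∀ ψ ∈ F.autGroup (Q ⊔ centralizerIn S T), Nat.Coprime (orderOf ψ) p → (∀ x ∈ Q, af ψ x = x) →
    ∃ h ∈ F.autGroup (T ⊔ centralizerIn S T), (∀ x ∈ T, af h x = x) ∧
      ∀ y ∈ Q ⊔ centralizerIn S T, Cg T (af ψ y) (af h y) := by
  have hTS : T ≤ S := hT.1
  have hfT : Finite T := H802.finite_of_le hTS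
  have hTp : IsPGroup p T := hS.to_le hTS
  have hRS : T ⊔ centralizerIn S T ≤ S := sup_cent_le hT le_rfl
  have hfR : Finite (T ⊔ centralizerIn S T : Subgroup Ω) := H802.finite_of_le hRS
  have hRc : F.StronglyClosed (T ⊔ centralizerIn S T) := Cfsg.Agent.S5255.result p hS F hF T hT
  have hTR : T ≤ T ⊔ centralizerIn S T := le_sup_left
  have main : ∀ n : ℕ, ∀ Q : Subgroup Ω, TC F T Q → Nat.card T - Nat.card Q = n →
      ∀ ψ ∈ F.autGroup (Q ⊔ centralizerIn S T), Nat.Coprime (orderOf ψ) p →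
      (∀ x ∈ Q, af ψ x = x) →
      ∃ h ∈ F.autGroup (T ⊔ centralizerIn S T), (∀ x ∈ T, af h x = x) ∧
        ∀ y ∈ Q ⊔ centralizerIn S T, Cg T (af ψ y) (af h y) := by
    intro n
    induction n using Nat.strong_induction_on with
    | _ n ih =>
    intro Q hQ hn ψ hψ hco hfix
    by_cases hQT : Q = T
    · subst hQT
      exact ⟨ψ, hψ, hfix, fun y _ => Cg.refl _ _⟩
    have hYS : Q ⊔ centralizerIn S T ≤ S := sup_cent_le hT hQ.le
    have hQY : Q ≤ Q ⊔ centralizerIn S T := le_sup_left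
    have hYR : Q ⊔ centralizerIn S T ≤ T ⊔ centralizerIn S T := sup_le_sup_right hQ.le _
    obtain ⟨Y', ⟨φ, hφ, hφY'⟩, hY'⟩ := H802.exists_isFullyNormalized hS hF hYS
    have hφm := mp_ex hφ
    obtain ⟨Q', hQ', hQ'S, hQ'c⟩ := hφm.exists_image hQY
    have hQ'T : TC F T Q' := hQ.image hT (hφm.res hQY) hQ'
    have hYeq : Y' = Q' ⊔ centralizerIn S T := by
      ext y
      rw [hQ.image_sup hS hF hT hφm hQ' y, ← hφY']
      constructor
      · rintro ⟨x, rfl⟩; exact ⟨x, x.2, ex_coe _ x⟩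
      · rintro ⟨x, hx, rfl⟩; exact ⟨⟨x, hx⟩, (ex_apply (φ : _ → Ω) hx).symm⟩
    subst hYeq
    set e := H802.isoOf φ (F.injective_of_mem hφ) hφY' with hedef
    have hev : ∀ (x : Ω) (hx : x ∈ Q ⊔ centralizerIn S T), ex φ x = ((e ⟨x, hx⟩ : _) : Ω) :=
      fun x hx => ex_apply _ hx
    set ψ' := MulAut.congr e ψ with hψ'def
    have hψ' : ψ' ∈ F.autGroup (Q' ⊔ centralizerIn S T) := H802.congr_mem_autGroup hφ hφY' hψ
    have hψ'co : Nat.Coprime (orderOf ψ') p := by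
      rw [hψ'def, MulEquiv.orderOf_eq]; exact hco
    have hψ'v : ∀ x ∈ Q ⊔ centralizerIn S T, af ψ' (ex φ x) = ex φ (af ψ x) := by
      intro x hx
      have h1 : ex φ x ∈ Q' ⊔ centralizerIn S T :=
        (hQ.image_sup hS hF hT hφm hQ' _).2 ⟨x, hx, rfl⟩
      rw [af_apply ψ' h1, hev _ (af_mem ψ hx)]
      have h2 : (⟨ex φ x, h1⟩ : (Q' ⊔ centralizerIn S T : Subgroup Ω)) = e ⟨x, hx⟩ :=
        Subtype.ext (hev x hx)
      rw [h2, hψ'def, MulAut.congr_apply]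
      show ((e (ψ (e.symm (e ⟨x, hx⟩))) : _) : Ω) = _
      rw [MulEquiv.symm_apply_apply]
      congr 2
      exact Subtype.ext (af_apply ψ hx).symm
    have hψ'fix : ∀ x ∈ Q', af ψ' x = x := by
      intro y hy
      obtain ⟨x, hx, rfl⟩ := (hQ' y).1 hy
      rw [hψ'v x (hQY hx), hfix x hx]
    obtain ⟨ψ₂, hψ₂, hψ₂co, hψ₂fix, hψ₂e⟩ := exists_step hS hF hT hQ'T hY' hψ' hψ'co hψ'fix
    have hcard : Nat.card Q' = Nat.card Q := hQ'c
    have hQ'ne : Q' ≠ T := by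
      intro h
      apply hQT
      apply Subgroup.eq_of_le_of_card_ge hQ.le
      rw [← hcard, h]
    have hlt : Nat.card Q' < Nat.card (normalizerIn T Q') :=
      H802.card_lt_card_normalizerIn hTp hQ'T.le hQ'ne
    have hNle : Nat.card (normalizerIn T Q') ≤ Nat.card T :=
      Nat.card_mono (Set.toFinite _) (show normalizerIn T Q' ≤ T from inf_le_left)
    have hNc : TC F T (normalizerIn T Q') :=
      hQ'T.mono (H802.le_normalizerIn hQ'T.le) inf_le_left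
    obtain ⟨h', hh', hh'T, hh'c⟩ := ih (Nat.card T - Nat.card (normalizerIn T Q')) (by omega) _ hNc
      rfl ψ₂ hψ₂ hψ₂co hψ₂fix
    -- the lift of `φ`
    obtain ⟨φ', hφ', hφ'e⟩ := H759.exists_lift hS hF hT _ φ hφ
    have hle1 : T ⊔ centralizerIn S T ≤ (Q ⊔ centralizerIn S T) ⊔ T :=
      sup_le le_sup_right ((le_sup_right : centralizerIn S T ≤ Q ⊔ centralizerIn S T).trans le_sup_left)
    have hφ'm : Mp F (T ⊔ centralizerIn S T) (ex φ') := (mp_ex hφ').res hle1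
    obtain ⟨κ, hκ, hκe⟩ := hφ'm.exists_aut fun x hx => mp_mem_of_stronglyClosed hRc hφ'm hx hx
    have hκf : ∀ x ∈ T ⊔ centralizerIn S T, af κ x = ex φ' x := fun x hx => by
      rw [af_apply κ hx, hκe x hx]
    have hκφ : ∀ x ∈ Q ⊔ centralizerIn S T, Cg T (ex φ x) (af κ x) := by
      intro x hx
      rw [hκf x (hYR hx), ex_apply (φ : _ → Ω) hx, ex_apply _ (hle1 (hYR hx))]
      exact hφ'e ⟨x, hx⟩ (hle1 (hYR hx))
    have hκm := mp_af hRS hκ
    have hκim := mp_af hRS (inv_mem hκ)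
    have hh'm := mp_af hRS hh'
    have hκT : ∀ x ∈ T, af κ x ∈ T := fun x hx => mp_mem_of_stronglyClosed hT hκm (hTR hx) hx
    refine ⟨κ⁻¹ * h' * κ, mul_mem (mul_mem (inv_mem hκ) hh') hκ, fun x hx => ?_, fun y hy => ?_⟩
    · rw [af_mul _ _ (hTR hx), af_mul _ _ (af_mem κ (hTR hx)), hh'T _ (hκT x hx),
        af_inv_af κ (hTR hx)]
    · have hyR := hYR hy
      rw [af_mul _ _ hyR, af_mul _ _ (af_mem κ hyR)]
      have hφy : ex φ y ∈ Q' ⊔ centralizerIn S T :=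
        (hQ.image_sup hS hF hT hφm hQ' _).2 ⟨y, hy, rfl⟩
      have hY'R : Q' ⊔ centralizerIn S T ≤ T ⊔ centralizerIn S T := sup_le_sup_right hQ'T.le _
      have hY'N : Q' ⊔ centralizerIn S T ≤ normalizerIn T Q' ⊔ centralizerIn S T :=
        sup_le_sup_right (H802.le_normalizerIn hQ'T.le) _
      -- `h' (κ y) ≡ h' (φ y) ≡ ψ₂ (φ y) = ψ' (φ y) = φ (ψ y) ≡ κ (ψ y)`
      have h1 := (hκφ y hy).map hT hh'm (hY'R hφy) (af_mem κ hyR)
      have h2 := hh'c _ (hY'N hφy)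
      rw [hψ₂e _ hφy, hψ'v y hy] at h2
      have h3 := hκφ _ (af_mem ψ hy)
      have h4 : Cg T (af κ (af ψ y)) (af h' (af κ y)) := h3.symm.trans (h2.trans h1)
      have h5 := h4.map hT hκim (af_mem κ (hYR (af_mem ψ hy))) (af_mem h' (af_mem κ hyR))
      rw [af_inv_af κ (hYR (af_mem ψ hy))] at h5
      exact h5
  intro Q hQ
  exact main _ Q hQ rfl

end Cfsg.Agent.H756
end

-- part: H756/FlatSys
section
/-!
# The system of flat maps (helper756)

`E` a subsystem of `F` over the strongly closed subgroup `T`, `C = C_S(T)`. A map `f : P → T` of `E`, `P` `T`-centric,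
is *flat* if it extends to a map `b` of `F` on `P C` with `b c ≡ c` modulo `T` for `c ∈ C`.
-/

set_option autoImplicit false

namespace Cfsg.Agent.H756

open Cfsg Cfsg.FusionSystem Cfsg.Agent.H752

variable {Ω : Type*} [Group Ω] {S T : Subgroup Ω} {F : FusionSystem S} {E : FusionSystem T} {p : ℕ}

/-- Flat functions on `P`. -/
def Flat (F : FusionSystem S) (T P : Subgroup Ω) (f : Ω → Ω) : Prop :=
  ∃ b, Mp F (P ⊔ centralizerIn S T) b ∧ (∀ x ∈ P, b x = f x) ∧ ∀ c ∈ centralizerIn S T, Cg T c (b c)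

theorem Flat.congr {P : Subgroup Ω} {f g : Ω → Ω} (h : Flat F T P f) (he : ∀ x ∈ P, g x = f x) :
    Flat F T P g := by
  obtain ⟨b, hb, h1, h2⟩ := h
  exact ⟨b, hb, fun x hx => (h1 x hx).trans (he x hx).symm, h2⟩

/-- The image of `c ∈ C` under a flat map is `c f(x)` with `x ∈ P`. -/
theorem TC.flat_apply (hT : F.StronglyClosed T) {P : Subgroup Ω} (hP : TC F T P) {b : Ω → Ω}
    (hb : Mp F (P ⊔ centralizerIn S T) b) {c : Ω} (hc : c ∈ centralizerIn S T) (h : Cg T c (b c)) :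
    ∃ x ∈ P, b c = c * b x := by
  have hPm : P ≤ P ⊔ centralizerIn S T := le_sup_left
  have hCm : centralizerIn S T ≤ P ⊔ centralizerIn S T := le_sup_right
  obtain ⟨x, hx, h1⟩ := hP.2 b (hb.res hPm) (c⁻¹ * b c) h fun x hx => by
    have h5 : b x ∈ T := mp_mem_of_stronglyClosed hT hb (hPm hx) (hP.le hx)
    have h4 : b x * b c = b c * b x := by
      rw [← hb.mul (hPm hx) (hCm hc), ← hb.mul (hCm hc) (hPm hx), cent_comm (hP.le hx) hc]
    have h6 := cent_comm h5 hc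
    have h7 : b x * c⁻¹ = c⁻¹ * b x := by
      have : b x * c⁻¹ = c⁻¹ * (c * b x) * c⁻¹ := by group
      rw [this, ← h6]; group
    rw [← mul_assoc, h7, mul_assoc, h4, mul_assoc]
  exact ⟨x, hx, by rw [h1]; group⟩

theorem Flat.comp (hT : F.StronglyClosed T) {P Q : Subgroup Ω} (hP : TC F T P) {f g : Ω → Ω}
    (hf : Flat F T P f) (hg : Flat F T Q g) (h : ∀ x ∈ P, f x ∈ Q) :
    Flat F T P (fun x => g (f x)) := by
  obtain ⟨b, hb, h1, h2⟩ := hf
  obtain ⟨b', hb', h1', h2'⟩ := hg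
  have hPm : P ≤ P ⊔ centralizerIn S T := le_sup_left
  have hCm : centralizerIn S T ≤ P ⊔ centralizerIn S T := le_sup_right
  have hQm : Q ≤ Q ⊔ centralizerIn S T := le_sup_left
  have hCm' : centralizerIn S T ≤ Q ⊔ centralizerIn S T := le_sup_right
  have hm : ∀ x ∈ P ⊔ centralizerIn S T, b x ∈ Q ⊔ centralizerIn S T := by
    refine hb.mem_sup (fun x hx => ?_) (fun c hc => ?_)
    · rw [h1 x hx]; exact hQm (h x hx)
    · obtain ⟨x, hx, h3⟩ := hP.flat_apply hT hb hc (h2 c hc)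
      rw [h3, h1 x hx]
      exact mul_mem (hCm' hc) (hQm (h x hx))
  refine ⟨_, hb.comp hb' hm, fun x hx => ?_, fun c hc => ?_⟩
  · show b' (b x) = g (f x)
    rw [h1 x hx, h1' _ (h x hx)]
  · show Cg T c (b' (b c))
    obtain ⟨x, hx, h3⟩ := hP.flat_apply hT hb hc (h2 c hc)
    have h4 : b x ∈ Q := by rw [h1 x hx]; exact h x hx
    have h5 : b x ∈ T := mp_mem_of_stronglyClosed hT hb (hPm hx) (hP.le hx)
    have h6 : b' (b x) ∈ T := mp_mem_of_stronglyClosed hT hb' (hQm h4) h5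
    rw [h3, hb'.mul (hCm' hc) (hQm h4)]
    refine (h2' c hc).trans ?_
    show (b' c)⁻¹ * (b' c * b' (b x)) ∈ T
    rw [inv_mul_cancel_left]
    exact h6

theorem Flat.symm [Finite S] [Fact p.Prime] (hS : IsPGroup p S) (hF : F.IsSaturated p)
    (hT : F.StronglyClosed T) {P R : Subgroup Ω} (hP : TC F T P) {f g : Ω → Ω}
    (hf : Flat F T P f) (hR : ∀ y, y ∈ R ↔ ∃ x ∈ P, f x = y) (hg : ∀ x ∈ P, g (f x) = x) :
    Flat F T R g := by
  obtain ⟨b, hb, h1, h2⟩ := hf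
  have hPm : P ≤ P ⊔ centralizerIn S T := le_sup_left
  have hCm : centralizerIn S T ≤ P ⊔ centralizerIn S T := le_sup_right
  have hR' : ∀ y, y ∈ R ↔ ∃ x ∈ P, b x = y := by
    intro y
    rw [hR y]
    constructor
    · rintro ⟨x, hx, rfl⟩; exact ⟨x, hx, h1 x hx⟩
    · rintro ⟨x, hx, rfl⟩; exact ⟨x, hx, (h1 x hx).symm⟩
  obtain ⟨b', hb', h3, h4⟩ := hb.exists_symm le_rfl (hP.image_sup hS hF hT hb hR')
  refine ⟨b', hb', fun y hy => ?_, fun c hc => ?_⟩
  · obtain ⟨x, hx, rfl⟩ := (hR y).1 hy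
    rw [hg x hx, ← h1 x hx, h3 x (hPm hx)]
  · obtain ⟨x, hx, h5⟩ := hP.flat_apply hT hb hc (h2 c hc)
    have h6 : b (c * x⁻¹) = c := by
      rw [hb.mul (hCm hc) (hPm (inv_mem hx)), hb.inv (hPm hx), h5]; group
    have h7 := h3 (c * x⁻¹) (mul_mem (hCm hc) (hPm (inv_mem hx)))
    rw [h6] at h7
    rw [h7]
    show c⁻¹ * (c * x⁻¹) ∈ T
    rw [inv_mul_cancel_left]
    exact inv_mem (hP.le hx)

theorem Flat.conj (hTS : T ≤ S) {P : Subgroup Ω} (hP : P ≤ T) {t : Ω} (ht : t ∈ T) :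
    Flat F T P (fun x => t * x * t⁻¹) := by
  refine ⟨_, mp_conj F (sup_le (hP.trans hTS) inf_le_left) (hTS ht), fun x _ => rfl,
    fun c hc => Cg.of_eq ?_⟩
  show c = t * c * t⁻¹
  rw [cent_comm ht hc]; group

/-- The subsystem of the flat maps of `E`. -/
def flatSys [Finite S] [Fact p.Prime] (hS : IsPGroup p S) (hF : F.IsSaturated p)
    (hT : F.StronglyClosed T) (E : FusionSystem T) (hE : E.IsSubsystemOf F) : FusionSystem T :=
  mkSys E (fun P f => TC F T P → Flat F T P f)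
    (fun _ _ _ h he hP => (h hP).congr he)
    (fun _ hP _ ht _ => Flat.conj hT.1 hP ht)
    (fun P Q f g hf hf' hg hg' h hP => by
      have hQ : TC F T Q := by
        obtain ⟨R, hR, -, -⟩ := (mp_mono hE hf).exists_image le_rfl
        refine (hP.image hT (mp_mono hE hf) hR).mono (fun y hy => ?_) hg.le
        obtain ⟨x, hx, rfl⟩ := (hR y).1 hy
        exact h x hx
      exact (hf' hP).comp hT hP (hg' hQ) h)
    (fun P R f g hf hf' hg hR hgf hRc => by
      have hRP : ∀ x, x ∈ P ↔ ∃ y ∈ R, g y = x := by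
        intro x
        constructor
        · intro hx; exact ⟨f x, (hR _).2 ⟨x, hx, rfl⟩, hgf x hx⟩
        · rintro ⟨y, hy, rfl⟩
          obtain ⟨x, hx, rfl⟩ := (hR y).1 hy
          rw [hgf x hx]; exact hx
      have hPc : TC F T P := hRc.image hT (mp_mono hE hg) hRP
      exact (hf' hPc).symm hS hF hT hPc hR hgf)

theorem mp_flatSys_iff [Finite S] [Fact p.Prime] {hS : IsPGroup p S} {hF : F.IsSaturated p}
    {hT : F.StronglyClosed T} {hE : E.IsSubsystemOf F} {P : Subgroup Ω} {f : Ω → Ω} :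
    Mp (flatSys hS hF hT E hE) P f ↔ Mp E P f ∧ (TC F T P → Flat F T P f) := mp_mkSys_iff

end Cfsg.Agent.H756
end

-- part: H756/FlatA
section
/-!
# Automorphisms of `p`-power order are flat (helper756)
-/

set_option autoImplicit false

namespace Cfsg.Agent.H756

open Cfsg Cfsg.FusionSystem Cfsg.Agent.H752

variable {Ω : Type*} [Group Ω] {S T : Subgroup Ω} {F : FusionSystem S} {E : FusionSystem T} {p : ℕ}

/-- An automorphism of `p`-power order in `E` becomes conjugation by an element of `T` under a map of `F` onto a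
subgroup fully normalized in `F`. -/
theorem exists_conj_full [Finite S] [Fact p.Prime] (hS : IsPGroup p S) (hE : E.IsWeaklyNormalIn F p)
    {P : Subgroup Ω} (hPT : P ≤ T) {α : MulAut P} (hα : α ∈ E.autGroup P) {k : ℕ}
    (hk : α ^ p ^ k = 1) :
    ∃ χ ∈ F.Hom P, F.IsFullyNormalized χ.range ∧ ∃ g ∈ T, ∀ x : P, χ (α x) = g * χ x * g⁻¹ := by
  obtain ⟨hEs, hF, hEI⟩ := hE
  have hT : F.StronglyClosed T := hEI.2.1
  have hTS : T ≤ S := hT.1
  have hfT : Finite T := H802.finite_of_le hTS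
  have hTp : IsPGroup p T := hS.to_le hTS
  obtain ⟨P', ⟨φ, hφ, hφP'⟩, hP'⟩ := H802.exists_isFullyNormalized hS hF (hPT.trans hTS)
  have hφT : ∀ x : P, φ x ∈ T := fun x => H759.StronglyClosed.apply_mem hT hφ (hPT x.2)
  have hP'T : P' ≤ T := by
    rw [← hφP']
    rintro _ ⟨x, rfl⟩
    exact hφT x
  set e := H802.isoOf φ (F.injective_of_mem hφ) hφP' with hedef
  have hα' : MulAut.congr e α ∈ E.autGroup P' := by
    refine H755.strong_inv_aut hEI hPT hP'T hα hφ fun y => ⟨e.symm y, ?_, ?_⟩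
    · exact H802.isoOf_symm_apply _ _ _ _
    · rfl
  have hP'E : E.IsFullyNormalized P' := H755.isFullyNormalized_sub hS hF hEI.1 hT hP'T hP'
  have hP'a := H802.isFullyAutomized_of_isFullyNormalized hTp hEs hP'E
  have hid : P'.subtype ∈ E.Hom P' := H802.subtype_mem E hP'T
  have hidr : P'.subtype.range = P' := Subgroup.range_subtype P'
  have hBp : IsPGroup p (Subgroup.zpowers (MulAut.congr e α)) := by
    rintro ⟨b, hb⟩
    obtain ⟨n, rfl⟩ := Subgroup.mem_zpowers_iff.1 hb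
    refine ⟨k, Subtype.ext ?_⟩
    show (MulAut.congr e α ^ n) ^ p ^ k = 1
    rw [← zpow_natCast, ← zpow_mul, mul_comm, zpow_mul, zpow_natCast, ← map_pow, hk, map_one,
      one_zpow]
  obtain ⟨β, hβ, hβe⟩ := H802.exists_aut_conj_le_of_isPGroup hid hidr hP'a
    (Subgroup.zpowers (MulAut.congr e α)) (Subgroup.zpowers_le.2 hα') hBp
  obtain ⟨g, hg, hge⟩ := (H802.mem_autInducedBy_iff T P' _).1 (hβe _ (Subgroup.mem_zpowers _))
  have hβF : β ∈ F.autGroup P' := by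
    rw [H802.mem_autGroup_iff _ (hP'T.trans hTS)]
    rw [H802.mem_autGroup_iff _ hP'T] at hβ
    exact hEI.1 _ hβ
  obtain ⟨χ, hχ, hχe⟩ := H802.exists_comp hφ ((H802.mem_autGroup_iff _ (hP'T.trans hTS) β).1 hβF)
    (fun x => by rw [← hφP']; exact ⟨x, rfl⟩)
  have hχv : ∀ x : P, χ x = (β (e x) : P') := fun x => by rw [hχe]; rfl
  have hχr : χ.range = P' := by
    ext y
    constructor
    · rintro ⟨x, rfl⟩
      rw [hχv]; exact (β _).2
    · intro hy
      refine ⟨e.symm (β⁻¹ ⟨y, hy⟩), ?_⟩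
      rw [hχv, MulEquiv.apply_symm_apply, MulAut.apply_inv_self]
  refine ⟨χ, hχ, by rw [hχr]; exact hP', g, hg, fun x => ?_⟩
  rw [hχv, hχv]
  have h1 := hge (β (e x))
  rw [← h1]
  congr 1
  have h2 : ∀ y : P', H802.isoOf P'.subtype (E.injective_of_mem hid) hidr y = y := fun y =>
    Subtype.ext rfl
  have h3 : ∀ y : P', (H802.isoOf P'.subtype (E.injective_of_mem hid) hidr).symm y = y := fun y => by
    rw [MulEquiv.symm_apply_eq, h2]
  show β (e (α x)) = (β * _ * β⁻¹) (β (e x))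
  rw [MulAut.mul_apply, MulAut.mul_apply, MulAut.inv_apply_self, MulAut.congr_apply]
  show β (e (α x)) = β (H802.isoOf P'.subtype (E.injective_of_mem hid) hidr
    (MulAut.congr e α ((H802.isoOf P'.subtype (E.injective_of_mem hid) hidr).symm (e x))))
  rw [h2, h3, MulAut.congr_apply]
  show β (e (α x)) = β (e (α (e.symm (e x))))
  rw [MulEquiv.symm_apply_apply]

/-- **(ha)** Automorphisms of `p`-power order in `E` of `T`-centric subgroups are flat. -/
theorem flat_of_pow [Finite S] [Fact p.Prime] (hS : IsPGroup p S) (hE : E.IsWeaklyNormalIn F p)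
    {P : Subgroup Ω} (hP : TC F T P) {α : MulAut P} (hα : α ∈ E.autGroup P) {k : ℕ}
    (hk : α ^ p ^ k = 1) : Flat F T P (af α) := by
  have hPT := hP.le
  obtain ⟨χ, hχ, hχn, g, hg, he⟩ := exists_conj_full hS hE hPT hα hk
  obtain ⟨hEs, hF, hEI⟩ := hE
  have hT : F.StronglyClosed T := hEI.2.1
  have hTS : T ≤ S := hT.1
  set P' := χ.range with hP'def
  have hPm : P ≤ P ⊔ centralizerIn S T := le_sup_left
  have hCm : centralizerIn S T ≤ P ⊔ centralizerIn S T := le_sup_right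
  obtain ⟨ψ, hψ, hψe⟩ := (H802.isReceptive_of_isFullyNormalized hS hF hχn).2 P χ hχ rfl
  have hPE : P ≤ extender S P χ := H802.le_extender (hPT.trans hTS) (H802.hom_apply_mem hχ)
  have hCE : centralizerIn S T ≤ extender S P χ := by
    refine le_trans (fun c hc => ?_) (H802.centralizerIn_le_extender S P χ)
    exact ⟨hc.1, Subgroup.mem_centralizer_iff.2 fun x hx => cent_comm (hPT hx) hc⟩
  have hσ : Mp F (P ⊔ centralizerIn S T) (ex ψ) := (mp_ex hψ).res (sup_le hPE hCE)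
  have hσe : ∀ (x : Ω) (hx : x ∈ P), ex ψ x = χ ⟨x, hx⟩ := fun x hx => by
    rw [ex_apply _ (hPE hx)]; exact hψe x hx (hPE hx)
  have hP' : ∀ y, y ∈ P' ↔ ∃ x ∈ P, ex ψ x = y := by
    intro y
    rw [hP'def]
    constructor
    · rintro ⟨x, rfl⟩; exact ⟨x, x.2, hσe x x.2⟩
    · rintro ⟨x, hx, rfl⟩; exact ⟨⟨x, hx⟩, (hσe x hx).symm⟩
  have him := hP.image_sup hS hF hT hσ hP'
  obtain ⟨σ', hσ', h3, h4⟩ := hσ.exists_symm le_rfl him
  have hP'T : P' ≤ T := by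
    intro y hy
    obtain ⟨x, hx, rfl⟩ := (hP' y).1 hy
    exact mp_mem_of_stronglyClosed hT hσ (hPm hx) (hPT hx)
  -- conjugation by `g` on `P' C`
  have hgx : ∀ x ∈ P, g * ex ψ x * g⁻¹ = ex ψ (af α x) := fun x hx => by
    rw [hσe x hx, hσe _ (af_mem α hx), ← he ⟨x, hx⟩]
    congr 1
    exact Subtype.ext (af_apply α hx).symm
  have hgc : ∀ c ∈ centralizerIn S T, g * c * g⁻¹ = c := fun c hc => by
    rw [cent_comm hg hc]; group
  have hκ := mp_conj F (sup_cent_le hT hP'T) (hTS hg)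
  have hm : ∀ y ∈ P' ⊔ centralizerIn S T, g * y * g⁻¹ ∈ P' ⊔ centralizerIn S T := by
    refine hκ.mem_sup (fun y hy => ?_) (fun c hc => ?_)
    · obtain ⟨x, hx, rfl⟩ := (hP' y).1 hy
      show g * ex ψ x * g⁻¹ ∈ _
      rw [hgx x hx]
      exact (le_sup_left : P' ≤ _) ((hP' _).2 ⟨_, af_mem α hx, rfl⟩)
    · show g * c * g⁻¹ ∈ _
      rw [hgc c hc]
      exact (le_sup_right : centralizerIn S T ≤ _) hc
  have hb : Mp F (P ⊔ centralizerIn S T) (fun x => σ' (g * ex ψ x * g⁻¹)) :=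
    (hσ.comp hκ fun x hx => (him _).2 ⟨x, hx, rfl⟩).comp hσ' fun x hx => hm _ ((him _).2 ⟨x, hx, rfl⟩)
  refine ⟨_, hb, fun x hx => ?_, fun c hc => ?_⟩
  · show σ' (g * ex ψ x * g⁻¹) = af α x
    rw [hgx x hx, h3 _ (hPm (af_mem α hx))]
  · show Cg T c (σ' (g * ex ψ c * g⁻¹))
    obtain ⟨y, hy, c', hc', h5⟩ := hP.apply_cent hS hF hT hσ hc
    have h6 : g * ex ψ c * g⁻¹ = ex ψ (af α y * y⁻¹ * c) := by
      have h7 : g * (ex ψ y * c') * g⁻¹ = (g * ex ψ y * g⁻¹) * (g * c' * g⁻¹) := by group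
      rw [h5, h7, hgx y hy, hgc c' hc', hσ.mul (hPm (mul_mem (af_mem α hy) (inv_mem hy))) (hCm hc),
        hσ.mul (hPm (af_mem α hy)) (hPm (inv_mem hy)), hσ.inv (hPm hy), h5]
      group
    rw [h6, h3 _ (mul_mem (hPm (mul_mem (af_mem α hy) (inv_mem hy))) (hCm hc))]
    have h8 : af α y * y⁻¹ * c = c * (af α y * y⁻¹) :=
      cent_comm (hPT (mul_mem (af_mem α hy) (inv_mem hy))) hc
    show c⁻¹ * (af α y * y⁻¹ * c) ∈ T
    rw [h8, inv_mul_cancel_left]
    exact hPT (mul_mem (af_mem α hy) (inv_mem hy))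

/-- **(hb)** An automorphism of `T` in `F` whose restriction to a `T`-centric subgroup is flat: some `p`-power of it
is flat. -/
theorem flat_pow_of_restrict [Finite S] [Fact p.Prime] (hS : IsPGroup p S) (hF : F.IsSaturated p)
    (hT : F.StronglyClosed T) {P : Subgroup Ω} (hP : TC F T P) {α : MulAut T}
    (hα : α ∈ F.autGroup T) (h : Flat F T P (af α)) : ∃ k : ℕ, Flat F T T (af (α ^ p ^ k)) := by
  have hPT := hP.le
  have hTS : T ≤ S := hT.1
  have hRS : T ⊔ centralizerIn S T ≤ S := sup_cent_le hT le_rfl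
  have hPCS : P ⊔ centralizerIn S T ≤ S := sup_cent_le hT hPT
  have hfR : Finite (T ⊔ centralizerIn S T : Subgroup Ω) := H802.finite_of_le hRS
  have hfPC : Finite (P ⊔ centralizerIn S T : Subgroup Ω) := H802.finite_of_le hPCS
  have hTR : T ≤ T ⊔ centralizerIn S T := le_sup_left
  have hCR : centralizerIn S T ≤ T ⊔ centralizerIn S T := le_sup_right
  have hPm : P ≤ P ⊔ centralizerIn S T := le_sup_left
  have hCm : centralizerIn S T ≤ P ⊔ centralizerIn S T := le_sup_right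
  have hYR : P ⊔ centralizerIn S T ≤ T ⊔ centralizerIn S T := sup_le_sup_right hPT _
  obtain ⟨b, hb, hbα, hbc⟩ := h
  obtain ⟨β, hβ, hβα, hβC⟩ := exists_extension_centralizer (p := p) hF hT hα
  have hβm := mp_af hRS hβ
  have hβT : ∀ x ∈ T, af β x = af α x := fun x hx => by
    rw [af_apply β (hTR hx), af_apply α hx]; exact hβα x hx
  -- the common image
  obtain ⟨P', hP', hP'S, -⟩ := hb.exists_image hPm
  have him := hP.image_sup hS hF hT hb hP'
  have hP'β : ∀ y, y ∈ P' ↔ ∃ x ∈ P, af β x = y := by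
    intro y
    rw [hP' y]
    constructor
    · rintro ⟨x, hx, rfl⟩; exact ⟨x, hx, by rw [hβT x (hPT hx), hbα x hx]⟩
    · rintro ⟨x, hx, rfl⟩; exact ⟨x, hx, by rw [hβT x (hPT hx), hbα x hx]⟩
  have himβ := hP.image_sup hS hF hT (hβm.res hYR) hP'β
  obtain ⟨b', hb', h3, h4⟩ := hb.exists_symm le_rfl him
  have hψm : Mp F (P ⊔ centralizerIn S T) (fun x => b' (af β x)) :=
    (hβm.res hYR).comp hb' fun x hx => (himβ _).2 ⟨x, hx, rfl⟩
  obtain ⟨ψ, hψ, hψe⟩ := hψm.exists_aut fun x hx => (h4 _ ((himβ _).2 ⟨x, hx, rfl⟩)).1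
  have hψv : ∀ x ∈ P ⊔ centralizerIn S T, af ψ x = b' (af β x) := fun x hx => by
    rw [af_apply ψ hx]; exact (hψe x hx).symm
  have hψfix : ∀ x ∈ P, af ψ x = x := fun x hx => by
    rw [hψv x (hPm hx), hβT x (hPT hx), ← hbα x hx, h3 x (hPm hx)]
  have hbψ : ∀ x ∈ P ⊔ centralizerIn S T, b (af ψ x) = af β x := fun x hx => by
    rw [hψv x hx]; exact (h4 _ ((himβ _).2 ⟨x, hx, rfl⟩)).2
  obtain ⟨u, v, huv, ⟨k, hk⟩, hv⟩ := TwoFusion.PResidual.exists_pPart_mul_pPrimePart p ψ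
  have hfixz : ∀ n : ℤ, ∀ x ∈ P, af (ψ ^ n) x = x := by
    intro n x hx
    have h1 : ∀ n : ℕ, af (ψ ^ n) x = x := by
      intro n
      induction n with
      | zero => rw [pow_zero]; exact af_one (hPm hx)
      | succ n ih => rw [pow_succ, af_mul _ _ (hPm hx), hψfix x hx, ih]
    obtain ⟨m, rfl | rfl⟩ := n.eq_nat_or_neg
    · rw [zpow_natCast]; exact h1 m
    · rw [zpow_neg, zpow_natCast]
      have h2 := af_inv_af (ψ ^ m) (hPm hx)
      rwa [h1 m] at h2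
  obtain ⟨h, hh, hhT, hhc⟩ := exists_lift_coprime hS hF hT P hP (ψ ^ v)
    (Subgroup.zpow_mem _ hψ v) hv (hfixz v)
  -- `b` is congruent to the identity modulo `T`
  have hbid : ∀ x ∈ P ⊔ centralizerIn S T, Cg T (b x) x := by
    refine cg_sup hT hb (mp_id F hPCS) (fun x hx => ?_) fun c hc => (hbc c hc).symm
    exact mul_mem (inv_mem (mp_mem_of_stronglyClosed hT hb (hPm hx) (hPT hx))) (hPT hx)
  -- `β h⁻¹`
  have hβ₁ : β * h⁻¹ ∈ F.autGroup (T ⊔ centralizerIn S T) := mul_mem hβ (inv_mem hh)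
  have hβ₁c : ∀ y ∈ P ⊔ centralizerIn S T, Cg T (af (β * h⁻¹) y) (af (ψ ^ u) y) := by
    intro y hy
    have hyR := hYR hy
    rw [af_mul _ _ hyR]
    have hz : af (ψ ^ v)⁻¹ y ∈ P ⊔ centralizerIn S T := af_mem _ hy
    have h5 := hhc _ hz
    rw [af_af_inv _ hy] at h5
    have h6 := h5.map hT (mp_af hRS (inv_mem hh)) hyR (af_mem h (hYR hz))
    rw [af_inv_af h (hYR hz)] at h6
    have h7 := h6.map hT hβm (af_mem h⁻¹ hyR) (hYR hz)
    rw [← hbψ _ hz] at h7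
    have h8 : af ψ (af (ψ ^ v)⁻¹ y) = af (ψ ^ u) y := by
      rw [← af_mul _ _ hy]
      congr 1
      calc ψ * (ψ ^ v)⁻¹ = ψ ^ u * ψ ^ v * (ψ ^ v)⁻¹ := by rw [← huv]
        _ = ψ ^ u := by group
    rw [h8] at h7
    exact h7.trans (hbid _ (af_mem _ hy))
  -- powers
  have hpow : ∀ n : ℕ, ∀ y ∈ P ⊔ centralizerIn S T,
      Cg T (af ((β * h⁻¹) ^ n) y) (af ((ψ ^ u) ^ n) y) := by
    intro n
    induction n with
    | zero =>
      intro y hy
      rw [pow_zero, pow_zero, af_one (hYR hy), af_one hy]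
      exact Cg.refl _ _
    | succ n ih =>
      intro y hy
      rw [pow_succ', pow_succ', af_mul _ _ (hYR hy), af_mul _ _ hy]
      have h1 := (ih y hy).map hT (mp_af hRS hβ₁) (af_mem _ (hYR hy)) (hYR (af_mem _ hy))
      exact h1.trans (hβ₁c _ (af_mem _ hy))
  have hk' : (ψ ^ u) ^ p ^ k = 1 := by
    rw [← hk]; exact pow_orderOf_eq_one _
  refine ⟨k, af ((β * h⁻¹) ^ p ^ k), mp_af hRS (Subgroup.pow_mem _ hβ₁ _), fun x hx => ?_,
    fun c hc => ?_⟩
  · have h1 : ∀ n : ℕ, af ((β * h⁻¹) ^ n) x = af (α ^ n) x := by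
      intro n
      induction n with
      | zero => rw [pow_zero, pow_zero, af_one (hTR hx), af_one hx]
      | succ n ih =>
        rw [pow_succ', pow_succ', af_mul _ _ (hTR hx), af_mul _ _ hx, ih]
        have h2 : af (α ^ n) x ∈ T := af_mem _ hx
        rw [af_mul _ _ (hTR h2)]
        have h3 : af h⁻¹ (af (α ^ n) x) = af (α ^ n) x := by
          have h4 := af_inv_af h (hTR h2)
          rwa [hhT _ h2] at h4
        rw [h3, hβT _ h2]
    exact h1 _
  · have h1 := hpow (p ^ k) c (hCm hc)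
    rw [hk', af_one (hCm hc)] at h1
    exact h1.symm

end Cfsg.Agent.H756
end

-- part: H756/WeakRes
section
/-!
# The `p'`-residual of a weakly normal subsystem is normal (helper756)
-/

set_option autoImplicit false

namespace Cfsg.Agent.H756

open Cfsg Cfsg.FusionSystem Cfsg.Agent.H752

variable {Ω : Type*} [Group Ω] {S T : Subgroup Ω} {F : FusionSystem S} {E D : FusionSystem T} {p : ℕ}

/-- The `p'`-residual of an invariant subsystem is invariant under `Aut_F(T)`. -/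
theorem invC_residual [Finite S] [Fact p.Prime] (hE : E.IsInvariantIn F)
    (hD : E.IsPPrimeResidual p D) : InvC D F := by
  intro P R f a h hf ha hR
  have hT : F.StronglyClosed T := hE.2.1
  have hfT : Finite T := H802.finite_of_le hT.1
  obtain ⟨hEs, hEi, hEm⟩ := hD
  obtain ⟨α, hα, hαa⟩ := ha.exists_aut (fun x hx => mp_mem_of_stronglyClosed hT ha hx hx)
  -- the systems viewed inside the group `T`
  obtain ⟨F', hF'⟩ := H759.exists_pull' (hf := Subgroup.subtype_injective T) (H759.top_map_subtype T) E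
  obtain ⟨E', hE'⟩ := H759.exists_pull' (hf := Subgroup.subtype_injective T) (H759.top_map_subtype T) D
  have hα' : α⁻¹ ∈ F.autGroup T := inv_mem hα
  have hi : Function.Injective (T.subtype.comp (α⁻¹).toMonoidHom) :=
    (Subgroup.subtype_injective T).comp (α⁻¹).injective
  have hF₂ : H759.IsPush hi F' E := H759.isPush_of_invariant hE hα' hF'
  obtain ⟨E₂, hE₂⟩ := H759.exists_push' (hf := hi) hF₂.carrier E'
  have hfin : Finite (⊤ : Subgroup T) := inferInstance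
  have hE's : E'.IsSaturated p := hE'.isSaturated_iff.1 hEs
  have hE₂s : E₂.IsSaturated p := hE₂.isSaturated_iff.2 hE's
  have hE'i : E'.HasPrimeToPIndexIn F' p := (hE'.hasPrimeToPIndexIn_iff hF').1 hEi
  have hE₂i : E₂.HasPrimeToPIndexIn E p := (hE₂.hasPrimeToPIndexIn_iff hF₂).2 hE'i
  have hle := hEm E₂ hE₂s hE₂i
  obtain ⟨φ, hφ, hφf⟩ := hf
  have hPT : P ≤ T := (D.le_of_mem hφ).1
  have hφ₂ : φ ∈ E₂.Hom P := hle P hφ
  obtain ⟨P₁, rfl, hP₁⟩ := hE₂.exists_source hPT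
  obtain ⟨φ₁, hφ₁, rfl⟩ := hE₂.exists_of_mem hφ₂
  have hφ₁' : H759.cb (Subgroup.subtype_injective T) φ₁ ∈ D.Hom (P₁.map T.subtype) :=
    (hE'.hom P₁ φ₁).2 hφ₁
  have hRle : R ≤ P₁.map T.subtype := by
    intro y hy
    obtain ⟨x, ⟨z, hz, rfl⟩, hxy, -⟩ := hR y hy
    refine ⟨z, hz, ?_⟩
    have h1 : (T.subtype.comp (α⁻¹).toMonoidHom) z = ((α⁻¹ z : T) : Ω) := rfl
    rw [h1, hαa _ (α⁻¹ z).2] at hxy
    rw [← hxy]
    show (z : Ω) = ((α (α⁻¹ z) : T) : Ω)
    rw [MulAut.apply_inv_self]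
  refine ⟨(H759.cb (Subgroup.subtype_injective T) φ₁).comp (Subgroup.inclusion hRle),
    H759.res_mem_comp D hφ₁' hRle, fun y hy => ?_⟩
  obtain ⟨x, ⟨z, hz, rfl⟩, hxy, hhy⟩ := hR y hy
  have h1 : (T.subtype.comp (α⁻¹).toMonoidHom) z = ((α⁻¹ z : T) : Ω) := rfl
  have h2 : (z : Ω) = y := by
    rw [h1, hαa _ (α⁻¹ z).2] at hxy
    rw [← hxy]
    show (z : Ω) = ((α (α⁻¹ z) : T) : Ω)
    rw [MulAut.apply_inv_self]
  have h3 : f ((T.subtype.comp (α⁻¹).toMonoidHom) z) = ((α⁻¹ (φ₁ ⟨z, hz⟩) : T) : Ω) := by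
    rw [← hφf _ ⟨z, hz, rfl⟩]
    exact H759.cb_apply hi φ₁ ⟨z, hz⟩ ⟨z, hz, rfl⟩
  rw [hhy, h3, hαa _ (α⁻¹ (φ₁ ⟨z, hz⟩)).2]
  show H759.cb (Subgroup.subtype_injective T) φ₁ ⟨y, _⟩ = ((α (α⁻¹ (φ₁ ⟨z, hz⟩)) : T) : Ω)
  rw [MulAut.apply_inv_self]
  have h4 := H759.cb_apply (Subgroup.subtype_injective T) φ₁ ⟨z, hz⟩ ⟨z, hz, rfl⟩
  have h5 : (⟨y, hRle hy⟩ : P₁.map T.subtype) = ⟨T.subtype ((⟨z, hz⟩ : P₁) : T), ⟨z, hz, rfl⟩⟩ :=
    Subtype.ext h2.symm
  rw [h5]
  exact h4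

/-- The `p'`-residual of a weakly normal subsystem is weakly normal. -/
theorem isWeaklyNormalIn_residual [Finite S] [Fact p.Prime] (hS : IsPGroup p S)
    (hE : E.IsWeaklyNormalIn F p) (hD : E.IsPPrimeResidual p D) : D.IsWeaklyNormalIn F p := by
  obtain ⟨hEs, hF, hEI⟩ := hE
  have hT : F.StronglyClosed T := hEI.2.1
  have hTS : T ≤ S := hT.1
  have hfT : Finite T := H802.finite_of_le hTS
  have hTp : IsPGroup p T := hS.to_le hTS
  have hI := invC_residual hEI hD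
  obtain ⟨hEF, -, hIE, hFr⟩ := isInvariantIn_iff.1 hEI
  have hDF : D.IsSubsystemOf F := fun P => (hD.2.1.1 P).trans (hEF P)
  refine ⟨hD.1, hF, isInvariantIn_iff.2 ⟨hDF, hT, hI, fun P f hPT hf => ?_⟩⟩
  obtain ⟨a, ha, f₁, hf₁, h1⟩ := hFr P f hPT hf
  obtain ⟨-, hfr, -⟩ := Cfsg.Agent.S5114.result p hTp E hEs D hD.2.1.1
    (fun P hP => hD.2.1.2 P hP.1)
  obtain ⟨φ, hφ, hφe⟩ := hf₁
  obtain ⟨α, hα, φ₀, hφ₀, h2⟩ := hfr P φ hφ
  have hαm : Mp F T (af α) := mp_mono hEF (mp_af le_rfl hα)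
  refine ⟨_, hαm.comp ha fun x hx => af_mem α hx, ex φ₀, mp_ex hφ₀, fun x hx => ?_⟩
  have h3 : φ₀ ⟨x, hx⟩ ∈ T := (D.le_of_mem hφ₀).2 _
  rw [h1 x hx, ← hφe x hx, h2 ⟨x, hx⟩ h3, ex_apply _ hx, af_apply α h3]

/-- **The `p'`-residual of a weakly normal subsystem is normal.** -/
theorem isNormalIn_residual [Finite S] [Fact p.Prime] (hS : IsPGroup p S)
    (hE : E.IsWeaklyNormalIn F p) (hD : E.IsPPrimeResidual p D) : D.IsNormalIn F p := by
  have hDw := isWeaklyNormalIn_residual hS hE hD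
  have hE' := hE
  obtain ⟨hEs, hF, hEI⟩ := hE'
  have hT : F.StronglyClosed T := hEI.2.1
  have hTS : T ≤ S := hT.1
  have hfT : Finite T := H802.finite_of_le hTS
  have hTp : IsPGroup p T := hS.to_le hTS
  have hEF : E.IsSubsystemOf F := hEI.1
  have hTc : TC F T T := ⟨le_rfl, fun f hf z hz _ => by
    have hfin : Finite T := hfT
    obtain ⟨x, hx, h⟩ := hf.surj (fun x hx => mp_mem_of_stronglyClosed hT hf hx hx) hz
    exact ⟨x, hx, h⟩⟩
  obtain ⟨E₂, hE₂s, hE₂i, hle, -⟩ := exists_primeIndex (F := E)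
    (F₁ := flatSys hS hF hT E hEF) hTp hEs mkSys_le
    (fun P hP => by
      rw [Subgroup.map_le_iff_le_comap, Subgroup.closure_le]
      rintro ⟨α, hα⟩ ⟨k, hk⟩
      show α ∈ (flatSys hS hF hT E hEF).autGroup P
      have hk' : α ^ p ^ k = 1 := by
        have := pow_orderOf_eq_one (⟨α, hα⟩ : E.autGroup P)
        rw [hk] at this
        exact congrArg Subtype.val this
      rw [mp_iff_autGroup hP.1, mp_flatSys_iff]
      exact ⟨mp_af hP.1 hα, fun hPc => flat_of_pow hS hE hPc hα hk'⟩)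
    (fun P a hP ha h => by
      rw [mp_flatSys_iff] at h ⊢
      refine ⟨ha, fun _ => ?_⟩
      have hPc : TC F T P := (isCentric_iff_tc hEI).1 hP
      obtain ⟨α, hα, hαe⟩ := ha.exists_aut fun x hx => ha.mem hx
      have haf : ∀ x ∈ T, af α x = a x := fun x hx => by rw [af_apply α hx]; exact (hαe x hx).symm
      have hαF : α ∈ F.autGroup T := mem_aut_of_mp hTS (mp_mono hEF (mp_af le_rfl hα))
      obtain ⟨k, hk⟩ := flat_pow_of_restrict hS hF hT hPc hαF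
        ((h.2 hPc).congr fun x hx => haf x (hP.1 hx))
      -- the flat automorphisms form a group
      let A := (flatSys hS hF hT E hEF).autGroup T
      have hA : ∀ β : MulAut T, β ∈ A ↔ Mp E T (af β) ∧ Flat F T T (af β) := fun β => by
        show β ∈ (flatSys hS hF hT E hEF).autGroup T ↔ _
        rw [mp_iff_autGroup le_rfl, mp_flatSys_iff]
        exact and_congr_right fun _ => ⟨fun h => h hTc, fun h _ => h⟩
      have hkA : α ^ p ^ k ∈ A := (hA _).2 ⟨mp_af le_rfl (Subgroup.pow_mem _ hα _), hk⟩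
      have hαA : α ∈ A := by
        obtain ⟨u, v, huv, ⟨m, hm⟩, hv⟩ := TwoFusion.PResidual.exists_pPart_mul_pPrimePart p α
        have h1 : α ^ u ∈ A := by
          refine (hA _).2 ⟨mp_af le_rfl (Subgroup.zpow_mem _ hα u), ?_⟩
          refine flat_of_pow hS hE hTc (Subgroup.zpow_mem _ hα u) (k := m) ?_
          rw [← hm]
          exact pow_orderOf_eq_one _
        have h2 : α ^ v ∈ A := by
          obtain ⟨j, hj⟩ := exists_pow_eq_self_of_coprime (x := α ^ v) (n := p ^ k)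
            (Nat.Coprime.pow_left k hv.symm)
          rw [← hj, ← zpow_natCast (α ^ v), ← zpow_mul, mul_comm v, zpow_mul, zpow_natCast]
          exact Subgroup.pow_mem _ (Subgroup.zpow_mem _ hkA v) j
        rw [huv]
        exact mul_mem h1 h2
      exact ((hA α).1 hαA).2.congr fun x hx => (haf x hx).symm)
  rw [isNormalIn_iff hTS]
  refine ⟨hD.1, hF, hDw.2.2, fun a ha => ?_⟩
  have hDE₂ : D.IsSubsystemOf E₂ := hD.2.2 E₂ hE₂s hE₂i
  have h1 : Mp (flatSys hS hF hT E hEF) T a := mp_mono hle (mp_mono hDE₂ ha)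
  obtain ⟨b, hb, hba, hbc⟩ := (mp_flatSys_iff.1 h1).2 hTc
  have hTR : T ≤ T ⊔ centralizerIn S T := le_sup_left
  have hCR : centralizerIn S T ≤ T ⊔ centralizerIn S T := le_sup_right
  refine ⟨b, hb, hba, fun c hc => ⟨hbc c hc, ?_⟩⟩
  refine Subgroup.mul_mem _ (Subgroup.inv_mem _ hc.2) (Subgroup.mem_centralizer_iff.2 fun t ht => ?_)
  obtain ⟨x, hx, rfl⟩ := (hb.res hTR).surj (fun x hx => mp_mem_of_stronglyClosed hT hb (hTR hx) hx) ht
  rw [← hb.mul (hTR hx) (hCR hc), ← hb.mul (hCR hc) (hTR hx), cent_comm hx hc]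

end Cfsg.Agent.H756
end
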